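import Groth.Agent.W4c1limliniiii.K678.Comp

/-!
The main results on exact points and components, in terms of the representing scheme.
-/

set_option autoImplicit false
universe u

open CategoryTheory AlgebraicGeometry TensorProduct Module IsLocalRing

namespace K678.Final

open K652.AffYoneda K652.MapSpan Groth.Agent.Fga.GrassBasic K678.LG K678.LocSpan K678.Deform K678.Exact K189.Chain
  K678.Pts K678.Types K678.Comp W4c1limliniiii Grass

section proper

variable {R : Type u} [CommRing R] {d r n : ℕ} {f g : Fin n → ((Fin d → R) →ₗ[R] (Fin d → R))}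
  {X : Over (Spec (CommRingCat.of R))}
  (e : ∀ A : CommAlgCat.{u} R,
      (Over.mk (Spec.map (CommRingCat.ofHom (algebraMap R A))) ⟶ X) ≃ LGPoints R d r n f g A)
  (he : ∀ (A B : CommAlgCat.{u} R) (φ : A ⟶ B)
      (x : Over.mk (Spec.map (CommRingCat.ofHom (algebraMap R A))) ⟶ X)
      (x' : Over.mk (Spec.map (CommRingCat.ofHom (algebraMap R B))) ⟶ X),
      x'.left = Spec.map (CommRingCat.ofHom φ.hom.toRingHom) ≫ x.left →
        ∀ i, (e B x').1 i = Module.Grassmannian.map φ.hom ((e A x).1 i))

include he in
/-- the linked Grassmannian is proper over the base -/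
theorem isProper : IsProper X.hom := by
  obtain ⟨X', e', he', hp⟩ := K807.LGRep.exists_rep R d r n f g
  let τ : ∀ A : CommAlgCat.{u} R, (specOver R A ⟶ X) ≃ (specOver R A ⟶ X') := fun A => (e A).trans (e' A).symm
  have hτ : IsNat fun A => τ A := by
    intro A B φ g g' h
    have h1 : bcPt φ ≫ τ A g = τ B g' := by
      apply (e' B).injective
      have h2 : e' B (τ B g') = e B g' := (e' B).apply_symm_apply _
      rw [h2]
      apply Subtype.ext
      funext i
      rw [he' A B φ (τ A g) (bcPt φ ≫ τ A g) rfl i, he A B φ g g' h i]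
      congr 1
      exact congrFun (congrArg Subtype.val ((e' A).apply_symm_apply (e A g))) i
    have h3 := congrArg CommaMorphism.left h1
    exact h3.symm
  obtain ⟨i, -⟩ := exists_iso hτ
  have h1 : X.hom = i.hom.left ≫ X'.hom := (Over.w i.hom).symm
  rw [h1]
  infer_instance

end proper

section field

variable {k : Type u} [Field k] {d n : ℕ} {f g : Fin n → ((Fin d → k) →ₗ[k] (Fin d → k))} {s : k}

theorem ext_id (f : Fin n → ((Fin d → k) →ₗ[k] (Fin d → k))) {i : ℕ} (hi : i < n) :
    ext f (RingHom.id k) i = f ⟨i, hi⟩ := by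
  rw [ext_of_lt f _ hi]
  apply LinearMap.ext
  intro x
  have h : (LinearMap.toMatrix' (f ⟨i, hi⟩)).map (RingHom.id k) = LinearMap.toMatrix' (f ⟨i, hi⟩) := by
    ext a b
    rfl
  rw [h, Matrix.mulVecLin_apply, LinearMap.toMatrix'_mulVec]

theorem hyp_of_field (hI : ∀ i, (f i).comp (g i) = s • LinearMap.id ∧ (g i).comp (f i) = s • LinearMap.id)
    (hII : ∀ i, d ≤ Module.finrank k (LinearMap.range (f i)) + Module.finrank k (LinearMap.range (g i)))
    (hIII : ∀ i j : Fin n, i.val + 1 = j.val →
      LinearMap.range (f i) ⊓ LinearMap.ker (f j) = ⊥ ∧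
        LinearMap.range (g j) ⊓ LinearMap.ker (g i) = ⊥) : Hyp f g s := by
  intro K _ ψ
  have h1 : ChainHyp (ext f (RingHom.id k)) (ext g (RingHom.id k)) (RingHom.id k s) n := by
    refine ⟨ext_comp f g s (fun i => (hI i).1) _, ext_comp g f s (fun i => (hI i).2) _, ?_, ?_, ?_⟩
    · intro i hi
      rw [ext_id f hi, ext_id g hi]
      exact hII _
    · intro i hi
      rw [ext_id f (by omega : i < n), ext_id f hi]
      exact (hIII ⟨i, by omega⟩ ⟨i + 1, hi⟩ rfl).1
    · intro i hi
      rw [ext_id g (by omega : i < n), ext_id g hi]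
      exact (hIII ⟨i, by omega⟩ ⟨i + 1, hi⟩ rfl).2
  exact chainHyp_comp hI (RingHom.id k) ψ h1

end field

section residue

variable {R : Type u} [CommRing R] {d n : ℕ} {f g : Fin n → ((Fin d → R) →ₗ[R] (Fin d → R))} {s : R}

theorem range_theta (A : Type u) [CommRing A] [Algebra R A] (φ : (Fin d → R) →ₗ[R] (Fin d → R)) :
    (LinearMap.range (φ.baseChange A)).map (theta (LinearEquiv.refl R (Fin d → R)) A).toLinearMap =
      LinearMap.range ((LinearMap.toMatrix' φ).map (algebraMap R A)).mulVecLin := by
  rw [← Submodule.map_top, map_theta, ← Submodule.map_top (f := (Matrix.mulVecLin _))]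
  congr 1
  rw [Submodule.map_top]
  exact LinearMap.range_eq_top.2 (theta (LinearEquiv.refl R (Fin d → R)) A).surjective

theorem hyp_of_residue (hI : ∀ i, (f i).comp (g i) = s • LinearMap.id ∧ (g i).comp (f i) = s • LinearMap.id)
    (hII : ∀ (P : Ideal R) [P.IsPrime], ∀ i,
      d ≤ Module.finrank P.ResidueField (LinearMap.range ((f i).baseChange P.ResidueField)) +
        Module.finrank P.ResidueField (LinearMap.range ((g i).baseChange P.ResidueField)))
    (hIII : ∀ (P : Ideal R) [P.IsPrime], ∀ i j : Fin n, i.val + 1 = j.val →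
      LinearMap.range ((f i).baseChange P.ResidueField) ⊓
          LinearMap.ker ((f j).baseChange P.ResidueField) = ⊥ ∧
        LinearMap.range ((g j).baseChange P.ResidueField) ⊓
          LinearMap.ker ((g i).baseChange P.ResidueField) = ⊥) : Hyp f g s := by
  intro K _ ψ
  let P : Ideal R := RingHom.ker ψ
  have hP : P.IsPrime := RingHom.ker_isPrime ψ
  have hle : P.primeCompl ≤ (IsUnit.submonoid K).comap ψ := by
    intro a ha
    exact isUnit_iff_ne_zero.2 fun h => ha h
  let φ : P.ResidueField →+* K := Ideal.ResidueField.lift P ψ le_rfl hle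
  have hφ : φ.comp (algebraMap R P.ResidueField) = ψ := by
    ext a
    exact Ideal.ResidueField.lift_algebraMap P ψ le_rfl hle a
  have hfr : ∀ (φ : (Fin d → R) →ₗ[R] (Fin d → R)),
      finrank P.ResidueField (LinearMap.range (φ.baseChange P.ResidueField)) =
      finrank P.ResidueField (LinearMap.range ((LinearMap.toMatrix' φ).map (algebraMap R P.ResidueField)).mulVecLin) := by
    intro φ
    rw [← range_theta]
    exact (LinearEquiv.finrank_map_eq (theta (LinearEquiv.refl R (Fin d → R)) P.ResidueField) _).symm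
  have hinf : ∀ (φ φ' : (Fin d → R) →ₗ[R] (Fin d → R)),
      LinearMap.range (φ.baseChange P.ResidueField) ⊓ LinearMap.ker (φ'.baseChange P.ResidueField) = ⊥ →
      LinearMap.range ((LinearMap.toMatrix' φ).map (algebraMap R P.ResidueField)).mulVecLin ⊓
        LinearMap.ker ((LinearMap.toMatrix' φ').map (algebraMap R P.ResidueField)).mulVecLin = ⊥ := by
    intro φ φ' h
    rw [← range_theta, ← ker_theta, ← Submodule.map_inf _
      (show Function.Injective (theta (LinearEquiv.refl R (Fin d → R)) P.ResidueField).toLinearMap from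
        (theta (LinearEquiv.refl R (Fin d → R)) P.ResidueField).injective), h, Submodule.map_bot]
  have h1 : ChainHyp (ext f (algebraMap R P.ResidueField)) (ext g (algebraMap R P.ResidueField))
      (algebraMap R P.ResidueField s) n := by
    refine ⟨ext_comp f g s (fun i => (hI i).1) _, ext_comp g f s (fun i => (hI i).2) _, ?_, ?_, ?_⟩
    · intro i hi
      rw [ext_of_lt f _ hi, ext_of_lt g _ hi, ← hfr, ← hfr]
      exact hII P _
    · intro i hi
      rw [ext_of_lt f _ (by omega : i < n), ext_of_lt f _ hi]
      exact hinf _ _ (hIII P ⟨i, by omega⟩ ⟨i + 1, hi⟩ rfl).1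
    · intro i hi
      rw [ext_of_lt g _ (by omega : i < n), ext_of_lt g _ hi]
      exact hinf _ _ (hIII P ⟨i, by omega⟩ ⟨i + 1, hi⟩ rfl).2
  have h2 := chainHyp_comp hI (algebraMap R P.ResidueField) φ h1
  rwa [hφ] at h2

end residue

section main

variable {R : Type u} [CommRing R] {d r n : ℕ} {f g : Fin n → ((Fin d → R) →ₗ[R] (Fin d → R))} {s : R}
  {X : Over (Spec (CommRingCat.of R))}

/-- exact points are dense -/
theorem dense_exP (D : Data X d (d - r) n f g) (hr : r ≤ d) (hyp : Hyp f g s) : Dense {x : X.left | exP D x} := by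
  intro x
  obtain ⟨y, hy1, hy2⟩ := exists_exact D hr hyp x
  exact closure_mono (Set.singleton_subset_iff.2 hy2) hy1.mem_closure

/-- over a field, the exact points form an open subset -/
theorem isOpen_exP {k : Type u} [Field k] {f g : Fin n → ((Fin d → k) →ₗ[k] (Fin d → k))} {s : k}
    {X : Over (Spec (CommRingCat.of k))} (D : Data X d (d - r) n f g) (hr : r ≤ d) (hyp : Hyp f g s) :
    IsOpen {x : X.left | exP D x} := by
  by_cases hs : s = 0
  · have hv : ∀ x : X.left, van X s x := fun x => by
      unfold van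
      rw [hs, map_zero]
    have h1 : {x : X.left | exP D x} = ⋂ i ∈ Finset.range n, ⋃ a ∈ Finset.range (r + 1),
        ({x : X.left | a ≤ rkp D f x i i} ∩ {x : X.left | r - a ≤ rkp D g x i (i + 1)}) := by
      ext x
      simp only [Set.mem_ofPred_eq, Set.mem_iInter, Set.mem_iUnion, Set.mem_inter_iff, Finset.mem_range]
      rw [exP_iff D hr hyp (hv x)]
      constructor
      · intro h i hi
        have := h i hi
        exact ⟨rkp D f x i i, by omega, le_rfl, by omega⟩
      · intro h i hi
        obtain ⟨a, ha, h2, h3⟩ := h i hi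
        have := rkp_add_le D hr hyp (hv x) hi
        omega
    rw [h1]
    apply isOpen_biInter_finset
    intro i hi
    rw [Finset.mem_range] at hi
    exact isOpen_biUnion fun a _ => (isOpen_le_rkp D f hi.le a).inter (isOpen_le_rkp D g (Nat.succ_le_of_lt hi) _)
  · have h1 : {x : X.left | exP D x} = Set.univ := by
      rw [Set.eq_univ_iff_forall]
      intro x
      refine exP_of_not_van D hyp fun h => hs ?_
      exact (map_eq_zero_iff _ (RingHom.injective (S := X.left.residueField x) _)).1 h
    rw [h1]
    exact isOpen_univ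

/-- over a field, the non-exact points are those on two components -/
theorem not_exP_iff {k : Type u} [Field k] {f g : Fin n → ((Fin d → k) →ₗ[k] (Fin d → k))} {s : k}
    {X : Over (Spec (CommRingCat.of k))} (D : Data X d (d - r) n f g) (hr : r ≤ d) (hyp : Hyp f g s)
    (hI : ∀ i, (f i).comp (g i) = s • LinearMap.id ∧ (g i).comp (f i) = s • LinearMap.id) (x : X.left) :
    ¬ exP D x ↔ ∃ Z₁ ∈ irreducibleComponents X.left, ∃ Z₂ ∈ irreducibleComponents X.left,
        Z₁ ≠ Z₂ ∧ x ∈ Z₁ ∩ Z₂ := by
  constructor
  · intro hex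
    by_cases hs : s = 0
    · have hv : ∀ x : X.left, van X s x := fun x => by
        unfold van
        rw [hs, map_zero]
      obtain ⟨i, hi, hlt⟩ := exists_lt_of_not_exP D hr hyp (hv x) hex
      obtain ⟨y, hy1, hy2, hy3, hy4⟩ := exists_exactG D hr hyp (hv x) hi
      obtain ⟨z, hz1, hz2, hz3, hz4⟩ := exists_exactF D hr hyp (hv x) hi
      refine ⟨irreducibleComponent y, irreducibleComponent_mem_irreducibleComponents y, irreducibleComponent z,
        irreducibleComponent_mem_irreducibleComponents z, ?_, hy1.mem_closed isClosed_irreducibleComponent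
        mem_irreducibleComponent, hz1.mem_closed isClosed_irreducibleComponent mem_irreducibleComponent⟩
      intro heq
      obtain ⟨ζ, hζ1, hζ2⟩ := exists_generic (irreducibleComponent_mem_irreducibleComponents y)
      have h1 : ζ ⤳ y := generic_specializes hζ1 mem_irreducibleComponent
      have h2 : ζ ⤳ z := generic_specializes hζ1 (heq ▸ mem_irreducibleComponent)
      have h3 := rkp_le_of_specializes D f (i := i) hi.le h1
      have h4 := rkp_le_of_specializes D g (i := i) (j := i + 1) (Nat.succ_le_of_lt hi) h2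
      have h5 := rkp_add_le D hr hyp (hv ζ) hi
      have h6 := (exP_iff D hr hyp hy2).1 hy4 i hi
      have h7 := (exP_iff D hr hyp hz2).1 hz4 i hi
      omega
    · exfalso
      apply hex
      refine exP_of_not_van D hyp fun h => hs ?_
      exact (map_eq_zero_iff _ (RingHom.injective (S := X.left.residueField x) _)).1 h
  · rintro ⟨Z₁, hZ₁, Z₂, hZ₂, hne, hx₁, hx₂⟩ hex
    obtain ⟨ζ₁, h1, h1'⟩ := exists_generic hZ₁
    obtain ⟨ζ₂, h2, h2'⟩ := exists_generic hZ₂
    obtain ⟨τ, hτ, hgen⟩ := exists_type D hr hyp hex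
    have h3 := isXi_of_generic D hr hI hτ (hgen ζ₁ (generic_specializes h1 hx₁)) h1'
    have h4 := isXi_of_generic D hr hI hτ (hgen ζ₂ (generic_specializes h2 hx₂)) h2'
    apply hne
    rw [← h1, ← h2, h3.unique h4]

section domain

variable [IsDomain R]

/-- generic points lie over the generic point of the base -/
theorem map_generic (D : Data X d (d - r) n f g) (hr : r ≤ d) (hyp : Hyp f g s)
    (hI : ∀ i, (f i).comp (g i) = s • LinearMap.id ∧ (g i).comp (f i) = s • LinearMap.id)
    {ζ : X.left} (hζ : ∀ z, z ⤳ ζ → z = ζ) : X.hom ζ = (⊥ : PrimeSpectrum R) := by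
  obtain ⟨y, hy1, hy2⟩ := exists_exact D hr hyp ζ
  obtain rfl := hζ y hy1
  obtain ⟨τ, hτ, hgen⟩ := exists_type D hr hyp hy2
  exact (isXi_of_generic D hr hI hτ (hgen y specializes_rfl) hζ).map_eq

theorem image_component (D : Data X d (d - r) n f g) (hr : r ≤ d) (hyp : Hyp f g s)
    (hI : ∀ i, (f i).comp (g i) = s • LinearMap.id ∧ (g i).comp (f i) = s • LinearMap.id)
    [IsProper X.hom] (Z : Set X.left) (hZ : Z ∈ irreducibleComponents X.left) : X.hom '' Z = Set.univ := by
  obtain ⟨ζ, h1, h2⟩ := exists_generic hZ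
  have h3 := map_generic D hr hyp hI h2
  have h4 : IsClosed (X.hom '' Z) := X.hom.isClosedMap _ (isClosed_of_mem_irreducibleComponents Z hZ)
  have h5 : (⊥ : PrimeSpectrum R) ∈ X.hom '' Z := ⟨ζ, h1 ▸ subset_closure rfl, h3⟩
  rw [Set.eq_univ_iff_forall]
  intro p
  have h6 : (⊥ : PrimeSpectrum R) ⤳ p := (PrimeSpectrum.le_iff_specializes _ _).1 bot_le
  exact h6.mem_closed h4 h5

theorem not_van_of_map_eq (hs : s ≠ 0) {x : X.left} (hx : X.hom x = (⊥ : PrimeSpectrum R)) : ¬ van X s x := by
  intro h
  apply hs
  have h1 : (Spec.map (str X (X.left.fromSpecResidueField x))) (closedPoint (X.left.residueField x)) =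
      (⊥ : PrimeSpectrum R) := by
    rw [map_str, Scheme.Hom.comp_apply, Scheme.fromSpecResidueField_apply]
    exact hx
  have h2 : s ∈ ((⊥ : PrimeSpectrum R)).asIdeal := by
    rw [← h1]
    change (str X (X.left.fromSpecResidueField x)).hom s ∈ maximalIdeal (X.left.residueField x)
    rw [show (str X (X.left.fromSpecResidueField x)).hom s = 0 from h]
    exact Submodule.zero_mem _
  exact h2

theorem push_zero_injective {K : Type u} [Field K] {F G : ℕ → ((Fin d → K) →ₗ[K] (Fin d → K))} {t : K} (ht : t ≠ 0)
    (hGF : ∀ i < n, ∀ x, G i (F i x) = t • x) {i : ℕ} (hi : i ≤ n) (x : Fin d → K) (hx : push F G 0 i x = 0) :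
    x = 0 := by
  induction i with
  | zero => rwa [push_self] at hx
  | succ i ih =>
    apply ih (by omega)
    rw [← F_push F G (Nat.zero_le i)] at hx
    have h1 := hGF i (by omega) (push F G 0 i x)
    rw [hx, map_zero] at h1
    exact (smul_eq_zero.1 h1.symm).resolve_left ht

/-- the linked Grassmannian is not empty -/
theorem nonempty (D : Data X d (d - r) n f g) (hr : r ≤ d)
    (hI : ∀ i, (f i).comp (g i) = s • LinearMap.id ∧ (g i).comp (f i) = s • LinearMap.id) (hs : s ≠ 0) :
    Nonempty X.left := by
  let K := FractionRing R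
  let ψ : R →+* K := algebraMap R K
  have hψs : ψ s ≠ 0 := by
    intro h
    rw [FaithfulSMul.algebraMap_eq_zero_iff] at h
    exact hs h
  have hFG := ext_comp f g s (fun i => (hI i).1) ψ
  have hGF := ext_comp g f s (fun i => (hI i).2) ψ
  let c : Fin r → Fin d → K := fun a => Pi.single (Fin.castLE hr a) 1
  have hc : LinearIndependent K c :=
    (Pi.basisFun K (Fin d)).linearIndependent.comp (Fin.castLE hr) (Fin.castLE_injective hr) |> fun h => by
      convert h using 1
      funext a
      simp [c]
  have hrank : ∀ i ≤ n, IsQuotRank (d - r) (spanT (ext f ψ) (ext g ψ) (fun _ => 0) c i) := by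
    intro i hi
    apply isQuotRank_of_finrank
    have h1 : LinearIndependent K (fun a => push (ext f ψ) (ext g ψ) 0 i (c a)) := by
      refine hc.map' (push (ext f ψ) (ext g ψ) 0 i) ?_
      rw [LinearMap.ker_eq_bot']
      exact fun x hx => push_zero_injective hψs hGF hi x hx
    have h2 := finrank_span_eq_card h1
    rw [Fintype.card_fin] at h2
    unfold spanT
    rw [h2]
    omega
  obtain ⟨t, -⟩ := D.exists_pt (B := CommRingCat.of K) (CommRingCat.ofHom ψ)
    (fun i => spanT (ext f ψ) (ext g ψ) (fun _ => 0) c i) hrank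
    (fun i hi => map_F_spanT hFG hi) (fun i hi => map_G_spanT hGF hi)
  exact ⟨im t⟩

/-- the linked Grassmannian is irreducible if the scalar does not vanish -/
theorem irreducibleSpace (D : Data X d (d - r) n f g) (hr : r ≤ d) (hyp : Hyp f g s)
    (hI : ∀ i, (f i).comp (g i) = s • LinearMap.id ∧ (g i).comp (f i) = s • LinearMap.id) (hs : s ≠ 0) :
    IrreducibleSpace X.left := by
  obtain ⟨x⟩ := nonempty D hr hI hs
  have key : ∀ y : X.left, irreducibleComponent y = irreducibleComponent x := by
    intro y
    obtain ⟨ζ₁, h1, h1'⟩ := exists_generic (irreducibleComponent_mem_irreducibleComponents y)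
    obtain ⟨ζ₂, h2, h2'⟩ := exists_generic (irreducibleComponent_mem_irreducibleComponents x)
    have h3 := isXi_of_generic D hr hI (fun _ => Nat.zero_le _)
      (hasType_zero D hr hyp (not_van_of_map_eq hs (map_generic D hr hyp hI h1'))) h1'
    have h4 := isXi_of_generic D hr hI (fun _ => Nat.zero_le _)
      (hasType_zero D hr hyp (not_van_of_map_eq hs (map_generic D hr hyp hI h2'))) h2'
    rw [← h1, ← h2, h3.unique h4]
  rw [irreducibleSpace_def]
  have h5 : irreducibleComponent x = (Set.univ : Set X.left) := by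
    rw [Set.eq_univ_iff_forall]
    intro y
    rw [← key y]
    exact mem_irreducibleComponent
  have h6 : IsIrreducible (irreducibleComponent x) := isIrreducible_irreducibleComponent
  rw [h5] at h6
  exact h6

end domain

end main

section rational

variable {k : Type u} [Field k] {d r n : ℕ} {f g : Fin n → ((Fin d → k) →ₗ[k] (Fin d → k))} {s : k}
  {X : Over (Spec (CommRingCat.of k))}
  (e : ∀ A : CommAlgCat.{u} k,
      (Over.mk (Spec.map (CommRingCat.ofHom (algebraMap k A))) ⟶ X) ≃ LGPoints k d r n f g A)

/-- exactness of a rational point is exactness at its image -/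
theorem isExact_iff_exP (D : Data X d (d - r) n f g) (hD : ∀ (A : CommAlgCat.{u} k)
      (x : Over.mk (Spec.map (CommRingCat.ofHom (algebraMap k A))) ⟶ X), ∀ i ≤ n, D.L x.left i = subA e A x i)
    (hr : r ≤ d) (hyp : Hyp f g s)
    (x : Over.mk (Spec.map (CommRingCat.ofHom (algebraMap k (CommAlgCat.of k k)))) ⟶ X) :
    IsExact k d r n f g (CommAlgCat.of k k) (e (CommAlgCat.of k k) x).1 ↔ exP D (im (K := k) x.left) := by
  rw [isExact_iff, exP_im (K := k) D hr hyp x.left]
  have h1 : str X (B := CommRingCat.of k) x.left = CommRingCat.ofHom (algebraMap k k) := by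
    apply Spec.map_injective
    rw [map_str]
    exact Over.w x
  unfold IsEx
  rw [h1]
  refine forall_congr' fun i => forall_congr' fun hi => ?_
  rw [← hD _ x i hi.le, ← hD _ x (i + 1) (Nat.succ_le_of_lt hi)]
  rfl

theorem range_eq (x : Over.mk (Spec.map (CommRingCat.ofHom (algebraMap k (CommAlgCat.of k k)))) ⟶ X) :
    Set.range x.left.base = {im (K := k) x.left} := by
  ext y
  constructor
  · rintro ⟨p, rfl⟩
    have h1 : p = closedPoint k := Subsingleton.elim (α := PrimeSpectrum k) _ _
    rw [h1]
    rfl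
  · rintro rfl
    exact ⟨closedPoint k, rfl⟩

end rational

end K678.Final
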