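import Mathlib
import Groth.Agent.W4c1limliniiii.K189.Chain

/-!
Exact linked tuples over a field are spanned by families of vectors born at the vertices of the chain.
-/

set_option autoImplicit false

open Module

namespace K678.Exact

open K189.Chain

variable {K : Type*} [Field K] {M : Type*} [AddCommGroup M] [Module K M]

/-- a linked tuple -/
structure Linked {A : Type*} [CommRing A] {M : Type*} [AddCommGroup M] [Module A M] (F G : ℕ → (M →ₗ[A] M)) (n : ℕ)
    (V : ℕ → Submodule A M) : Prop where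
  hF : ∀ i < n, (V i).map (F i) ≤ V (i + 1)
  hG : ∀ i < n, (V (i + 1)).map (G i) ≤ V i

/-- an exact tuple -/
def IsEx {A : Type*} [CommRing A] {M : Type*} [AddCommGroup M] [Module A M] (F G : ℕ → (M →ₗ[A] M)) (n : ℕ)
    (V : ℕ → Submodule A M) : Prop :=
  ∀ i < n, LinearMap.ker (G i) ⊓ V (i + 1) ≤ (V i).map (F i) ∧ LinearMap.ker (F i) ⊓ V i ≤ (V (i + 1)).map (G i)

/-- Rank–nullity for the restriction of a linear map to a subspace. -/
theorem finrank_map_add {M' : Type*} [AddCommGroup M'] [Module K M'] [FiniteDimensional K M] (φ : M →ₗ[K] M')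
    (V : Submodule K M) : finrank K ↥(V.map φ) + finrank K ↥(LinearMap.ker φ ⊓ V) = finrank K V := by
  have h := LinearMap.finrank_range_add_finrank_ker (φ.domRestrict V)
  rw [LinearMap.range_domRestrict] at h
  rw [← h]
  congr 1
  have e : LinearMap.ker (φ.domRestrict V) = (LinearMap.ker φ ⊓ V).comap V.subtype := by
    ext x
    simp
  rw [e]
  exact (Submodule.comapSubtypeEquivOfLe inf_le_right).finrank_eq.symm

variable {F G : ℕ → (M →ₗ[K] M)} {s : K} {n r : ℕ} {V : ℕ → Submodule K M}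

theorem spanT_le {A : Type*} [CommRing A] {M : Type*} [AddCommGroup M] [Module A M] {F G : ℕ → (M →ₗ[A] M)} {n : ℕ}
    {V : ℕ → Submodule A M} (hL : Linked F G n V) {ι : Type*} {τ : ι → ℕ} {c : ι → M}
    (hτ : ∀ a, τ a ≤ n) (hc : ∀ a, c a ∈ V (τ a)) {i : ℕ} (hi : i ≤ n) : spanT F G τ c i ≤ V i := by
  rw [spanT, Submodule.span_le]
  rintro _ ⟨a, rfl⟩
  exact push_mem hL.hF hL.hG (hτ a) hi (hc a)

/-- statement (1) when `s ≠ 0` -/
theorem exists_span_zero [FiniteDimensional K M] (hs : s ≠ 0) (hFG : ∀ i < n, ∀ x, F i (G i x) = s • x)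
    (hL : Linked F G n V)
    (hr : ∀ i ≤ n, finrank K (V i) = r) :
    ∃ (c : Fin r → M), (∀ a, c a ∈ V 0) ∧ ∀ i ≤ n, spanT F G (fun _ => 0) c i = V i := by
  let b : Basis (Fin r) K (V 0) := (finBasis K (V 0)).reindex (finCongr (hr 0 (Nat.zero_le _)))
  refine ⟨fun a => (b a : M), fun a => (b a).2, ?_⟩
  intro i hi
  apply le_antisymm (spanT_le hL (fun _ => Nat.zero_le _) (fun a => (b a).2) hi)
  induction i with
  | zero =>
    intro x hx
    have h1 : (⟨x, hx⟩ : V 0) ∈ Submodule.span K (Set.range b) := by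
      rw [b.span_eq]
      trivial
    have h2 := Submodule.apply_mem_span_image_of_mem_span (V 0).subtype h1
    rw [← Set.range_comp] at h2
    have h3 : (fun a => push F G 0 0 (b a : M)) = (V 0).subtype ∘ b := by
      funext a
      simp
    rw [spanT, h3]
    exact h2
  | succ i ih =>
    intro x hx
    have h1 : G i x ∈ V i := hL.hG i (by omega) ⟨x, hx, rfl⟩
    have h2 := ih (by omega) h1
    have h3 := map_F_spanT hFG (by omega : i < n) ⟨_, h2, rfl⟩
    rw [hFG i (by omega)] at h3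
    have h4 := Submodule.smul_mem _ s⁻¹ h3
    rwa [smul_smul, inv_mul_cancel₀ hs, one_smul] at h4

theorem exists_span_of_ne_zero [FiniteDimensional K M] (hs : s ≠ 0) (hFG : ∀ i < n, ∀ x, F i (G i x) = s • x)
    (hL : Linked F G n V)
    (hr : ∀ i ≤ n, finrank K (V i) = r) :
    ∃ (τ : Fin r → ℕ) (c : Fin r → M), (∀ a, τ a ≤ n) ∧ (∀ a, c a ∈ V (τ a)) ∧
      ∀ i ≤ n, spanT F G τ c i = V i := by
  obtain ⟨c, hc, hc'⟩ := exists_span_zero hs hFG hL hr
  exact ⟨_, c, fun _ => Nat.zero_le _, hc, hc'⟩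

theorem isEx_of_ne_zero (hs : s ≠ 0) (hFG : ∀ i < n, ∀ x, F i (G i x) = s • x)
    (hGF : ∀ i < n, ∀ x, G i (F i x) = s • x) (hL : Linked F G n V) : IsEx F G n V := by
  intro i hi
  refine ⟨?_, ?_⟩
  · rintro x ⟨hx, hx'⟩
    refine ⟨s⁻¹ • G i x, Submodule.smul_mem _ _ (hL.hG i hi ⟨x, hx', rfl⟩), ?_⟩
    rw [map_smul, hFG i hi, smul_smul, inv_mul_cancel₀ hs, one_smul]
  · rintro x ⟨hx, hx'⟩
    refine ⟨s⁻¹ • F i x, Submodule.smul_mem _ _ (hL.hF i hi ⟨x, hx', rfl⟩), ?_⟩
    rw [map_smul, hGF i hi, smul_smul, inv_mul_cancel₀ hs, one_smul]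

/-- for `s = 0` the ranks add up to at most `r` -/
theorem rank_add_le [FiniteDimensional K M] (hGF : ∀ i < n, ∀ x, G i (F i x) = 0)
    (hL : Linked F G n V) (hr : ∀ i ≤ n, finrank K (V i) = r) {i : ℕ} (hi : i < n) :
    finrank K ↥((V i).map (F i)) + finrank K ↥((V (i + 1)).map (G i)) ≤ r := by
  have h1 := finrank_map_add (G i) (V (i + 1))
  rw [hr (i + 1) (by omega)] at h1
  have h2 : (V i).map (F i) ≤ LinearMap.ker (G i) ⊓ V (i + 1) := by
    refine le_inf ?_ (hL.hF i hi)
    rintro _ ⟨x, hx, rfl⟩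
    exact hGF i hi x
  have h3 := Submodule.finrank_mono h2
  omega

/-- for `s = 0` a tuple is exact at `i` iff the ranks add up to `r` -/
theorem isEx_iff_rank [FiniteDimensional K M] (hFG : ∀ i < n, ∀ x, F i (G i x) = 0)
    (hGF : ∀ i < n, ∀ x, G i (F i x) = 0)
    (hL : Linked F G n V) (hr : ∀ i ≤ n, finrank K (V i) = r) :
    IsEx F G n V ↔ ∀ i < n, finrank K ↥((V i).map (F i)) + finrank K ↥((V (i + 1)).map (G i)) = r := by
  refine forall_congr' fun i => forall_congr' fun hi => ?_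
  have h1 := finrank_map_add (G i) (V (i + 1))
  rw [hr (i + 1) (by omega)] at h1
  have h2 : (V i).map (F i) ≤ LinearMap.ker (G i) ⊓ V (i + 1) := by
    refine le_inf ?_ (hL.hF i hi)
    rintro _ ⟨x, hx, rfl⟩
    exact hGF i hi x
  have h3 := finrank_map_add (F i) (V i)
  rw [hr i hi.le] at h3
  have h4 : (V (i + 1)).map (G i) ≤ LinearMap.ker (F i) ⊓ V i := by
    refine le_inf ?_ (hL.hG i hi)
    rintro _ ⟨x, hx, rfl⟩
    exact hFG i hi x
  constructor
  · rintro ⟨h5, -⟩
    rw [← le_antisymm h2 h5] at h1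
    omega
  · intro h5
    refine ⟨(Submodule.eq_of_le_of_finrank_le h2 (by omega)).ge,
      (Submodule.eq_of_le_of_finrank_le h4 (by omega)).ge⟩

/-- the part of `V j` coming from the left -/
def Lft (F : ℕ → (M →ₗ[K] M)) (V : ℕ → Submodule K M) : ℕ → Submodule K M
  | 0 => ⊥
  | j + 1 => (V j).map (F j)

/-- the part of `V j` coming from the right -/
def Rgt (G : ℕ → (M →ₗ[K] M)) (n : ℕ) (V : ℕ → Submodule K M) (j : ℕ) : Submodule K M :=
  if j < n then (V (j + 1)).map (G j) else ⊥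

theorem Lft_le (hL : Linked F G n V) {j : ℕ} (hj : j ≤ n) : Lft F V j ≤ V j := by
  cases j with
  | zero => exact bot_le
  | succ j => exact hL.hF j (by omega)

theorem Rgt_le (hL : Linked F G n V) {j : ℕ} : Rgt G n V j ≤ V j := by
  unfold Rgt
  split_ifs with h
  · exact hL.hG j h
  · exact bot_le

theorem Lft_inf_Rgt (hFG : ∀ i < n, ∀ x, F i (G i x) = 0)
    (hIII : ∀ i, i + 1 < n → LinearMap.range (F i) ⊓ LinearMap.ker (F (i + 1)) = ⊥)
    {j : ℕ} : Lft F V j ⊓ Rgt G n V j = ⊥ := by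
  cases j with
  | zero => exact bot_inf_eq _
  | succ j =>
    unfold Rgt
    split_ifs with h
    · rw [eq_bot_iff, ← hIII j h]
      rintro x ⟨⟨y, hy, rfl⟩, ⟨z, hz, hz'⟩⟩
      refine ⟨⟨y, rfl⟩, ?_⟩
      rw [SetLike.mem_coe, LinearMap.mem_ker, ← hz']
      exact hFG _ h z
    · exact inf_bot_eq _

theorem exists_compl (W V : Submodule K M) (h : W ≤ V) :
    ∃ N : Submodule K M, N ⊔ W = V ∧ N ⊓ W = ⊥ := by
  obtain ⟨N, hN⟩ := Submodule.exists_isCompl (W.comap V.subtype)
  refine ⟨N.map V.subtype, ?_, ?_⟩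
  · have h1 : W = (W.comap V.subtype).map V.subtype := by
      rw [Submodule.map_comap_subtype, inf_eq_right.2 h]
    conv_lhs => rw [h1]
    rw [← Submodule.map_sup, hN.symm.sup_eq_top, Submodule.map_subtype_top]
  · have h1 : W = (W.comap V.subtype).map V.subtype := by
      rw [Submodule.map_comap_subtype, inf_eq_right.2 h]
    rw [h1, ← Submodule.map_inf _ (Submodule.injective_subtype V), hN.symm.inf_eq_bot, Submodule.map_bot]

/-- statement (1) when `s = 0` -/
theorem exists_span_of_eq_zero [FiniteDimensional K M] (hFG : ∀ i < n, ∀ x, F i (G i x) = 0)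
    (hGF : ∀ i < n, ∀ x, G i (F i x) = 0)
    (hIII : ∀ i, i + 1 < n → LinearMap.range (F i) ⊓ LinearMap.ker (F (i + 1)) = ⊥)
    (hL : Linked F G n V) (hE : IsEx F G n V) (hr : ∀ i ≤ n, finrank K (V i) = r) :
    ∃ (τ : Fin r → ℕ) (c : Fin r → M), (∀ a, τ a ≤ n) ∧ (∀ a, c a ∈ V (τ a)) ∧
      ∀ i ≤ n, spanT F G τ c i = V i := by
  have hrk := (isEx_iff_rank hFG hGF hL hr).1 hE
  have h1 : ∀ j : ℕ, ∃ N : Submodule K M, j ≤ n → (N ⊔ (Lft F V j ⊔ Rgt G n V j) = V j ∧
      N ⊓ (Lft F V j ⊔ Rgt G n V j) = ⊥) := by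
    intro j
    by_cases hj : j ≤ n
    · obtain ⟨N, hN⟩ := exists_compl (Lft F V j ⊔ Rgt G n V j) (V j) (sup_le (Lft_le hL hj) (Rgt_le hL))
      exact ⟨N, fun _ => hN⟩
    · exact ⟨⊥, fun h => absurd h hj⟩
  choose N hN using h1
  -- the dimensions
  have hdim : ∀ j ≤ n, finrank K (N j) + (finrank K (Lft F V j) + finrank K (Rgt G n V j)) = r := by
    intro j hj
    obtain ⟨h2, h3⟩ := hN j hj
    have h4 := Submodule.finrank_sup_add_finrank_inf_eq (N j) (Lft F V j ⊔ Rgt G n V j)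
    have h5 := Submodule.finrank_sup_add_finrank_inf_eq (Lft F V j) (Rgt G n V j)
    rw [Lft_inf_Rgt hFG hIII, finrank_bot] at h5
    rw [h2, h3, finrank_bot, hr j hj] at h4
    omega
  have hsum : ∀ m ≤ n, ∑ j ∈ Finset.range m, finrank K (N j) = finrank K (Lft F V m) := by
    intro m
    induction m with
    | zero =>
      intro _
      rw [Finset.range_zero, Finset.sum_empty, Lft, finrank_bot]
    | succ m ih =>
      intro hm
      rw [Finset.sum_range_succ, ih (by omega)]
      have h2 := hdim m (by omega)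
      have h3 := hrk m (by omega)
      have h4 : Rgt G n V m = (V (m + 1)).map (G m) := if_pos (by omega)
      rw [h4] at h2
      rw [Lft]
      omega
  have htot : ∑ j : Fin (n + 1), finrank K (N j) = r := by
    rw [Fin.sum_univ_eq_sum_range (fun j => finrank K (N j)) (n + 1), Finset.sum_range_succ, hsum n le_rfl]
    have h2 := hdim n le_rfl
    have h4 : Rgt G n V n = ⊥ := if_neg (lt_irrefl _)
    rw [h4, finrank_bot] at h2
    omega
  -- the family
  let e : (Σ j : Fin (n + 1), Fin (finrank K (N j))) ≃ Fin r :=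
    finSigmaFinEquiv.trans (finCongr htot)
  let b : ∀ j : ℕ, Basis (Fin (finrank K (N j))) K (N j) := fun j => finBasis K (N j)
  let τ : Fin r → ℕ := fun a => ((e.symm a).1 : ℕ)
  let c : Fin r → M := fun a => (b (e.symm a).1 (e.symm a).2 : M)
  have hτ : ∀ a, τ a ≤ n := fun a => Nat.lt_succ_iff.1 (e.symm a).1.2
  have hNV : ∀ j ≤ n, N j ≤ V j := fun j hj => by
    rw [← (hN j hj).1]
    exact le_sup_left
  have hc : ∀ a, c a ∈ V (τ a) := fun a => hNV _ (hτ a) (b (e.symm a).1 (e.symm a).2).2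
  refine ⟨τ, c, hτ, hc, ?_⟩
  have hNS : ∀ j ≤ n, N j ≤ spanT F G τ c j := by
    intro j hj x hx
    have h2 : (⟨x, hx⟩ : N j) ∈ Submodule.span K (Set.range (b j)) := by
      rw [(b j).span_eq]
      trivial
    have h3 := Submodule.apply_mem_span_image_of_mem_span (N j).subtype h2
    rw [← Set.range_comp] at h3
    refine (Submodule.span_le.2 ?_) h3
    rintro _ ⟨k, rfl⟩
    have h4 := push_mem_spanT (F := F) (G := G) (τ := τ) (c := c) j (e ⟨⟨j, Nat.lt_succ_of_le hj⟩, k⟩)
    have h5 : τ (e ⟨⟨j, Nat.lt_succ_of_le hj⟩, k⟩) = j := by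
      simp [τ]
    have h6 : c (e ⟨⟨j, Nat.lt_succ_of_le hj⟩, k⟩) = b j k := by
      simp only [c]
      rw [Equiv.symm_apply_apply]
    rw [h5, h6, push_self] at h4
    exact h4
  have hFG' : ∀ i < n, ∀ x, F i (G i x) = (0 : K) • x := fun i hi x => by rw [hFG i hi, zero_smul]
  have hGF' : ∀ i < n, ∀ x, G i (F i x) = (0 : K) • x := fun i hi x => by rw [hGF i hi, zero_smul]
  have hLS : ∀ j ≤ n, Lft F V j ≤ spanT F G τ c j := by
    intro j
    induction j with
    | zero => intro _; exact bot_le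
    | succ j ih =>
      intro hj
      rw [Lft, ← (hN j (by omega)).1, Submodule.map_sup, Submodule.map_sup]
      refine sup_le ?_ (sup_le ?_ ?_)
      · exact (Submodule.map_mono (hNS j (by omega))).trans (map_F_spanT hFG' (by omega))
      · exact (Submodule.map_mono (ih (by omega))).trans (map_F_spanT hFG' (by omega))
      · rintro _ ⟨x, hx, rfl⟩
        have h4 : Rgt G n V j = (V (j + 1)).map (G j) := if_pos (by omega)
        rw [h4] at hx
        obtain ⟨y, hy, rfl⟩ := hx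
        rw [hFG j (by omega)]
        exact Submodule.zero_mem _
  have hRS : ∀ l j, j + l = n → Rgt G n V j ≤ spanT F G τ c j := by
    intro l
    induction l with
    | zero =>
      intro j hj
      have h4 : Rgt G n V j = ⊥ := if_neg (by omega)
      rw [h4]
      exact bot_le
    | succ l ih =>
      intro j hj
      have h4 : Rgt G n V j = (V (j + 1)).map (G j) := if_pos (by omega)
      rw [h4, ← (hN (j + 1) (by omega)).1, Submodule.map_sup, Submodule.map_sup]
      refine sup_le ?_ (sup_le ?_ ?_)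
      · exact (Submodule.map_mono (hNS (j + 1) (by omega))).trans (map_G_spanT hGF' (by omega))
      · rintro _ ⟨x, hx, rfl⟩
        rw [Lft] at hx
        obtain ⟨y, hy, rfl⟩ := hx
        rw [hGF j (by omega)]
        exact Submodule.zero_mem _
      · exact (Submodule.map_mono (ih (j + 1) (by omega))).trans (map_G_spanT hGF' (by omega))
  intro i hi
  apply le_antisymm (spanT_le hL hτ hc hi)
  rw [← (hN i hi).1]
  exact sup_le (hNS i hi) (sup_le (hLS i hi) (hRS (n - i) i (by omega)))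

/-- statement (1) -/
theorem exists_span [FiniteDimensional K M] (hFG : ∀ i < n, ∀ x, F i (G i x) = s • x)
    (hGF : ∀ i < n, ∀ x, G i (F i x) = s • x)
    (hIII : ∀ i, i + 1 < n → LinearMap.range (F i) ⊓ LinearMap.ker (F (i + 1)) = ⊥)
    (hL : Linked F G n V) (hE : IsEx F G n V) (hr : ∀ i ≤ n, finrank K (V i) = r) :
    ∃ (τ : Fin r → ℕ) (c : Fin r → M), (∀ a, τ a ≤ n) ∧ (∀ a, c a ∈ V (τ a)) ∧
      ∀ i ≤ n, spanT F G τ c i = V i := by
  by_cases hs : s = 0
  · subst hs
    simp only [zero_smul] at hFG hGF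
    exact exists_span_of_eq_zero hFG hGF hIII hL hE hr
  · exact exists_span_of_ne_zero hs hFG hL hr

end K678.Exact
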