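import Mathlib
import Groth.Agent.Lefpen.H718.Minor
import Groth.Agent.QuotLF.K821.GraphForm

/-!
Spans of vectors in `B^d`: rank of the quotient over a local ring, base change of ranks for fields, minors.
-/

set_option autoImplicit false

open Module
open scoped Matrix

namespace K678.LocSpan

open Groth.Agent.Fga.GrassBasic Groth.Agent.Fga.GrassChart K821.GraphForm

section basic

variable {B C : Type*} [CommRing B] [CommRing C] {d r : ℕ}

/-- the image of a vector -/
def mapV (φ : B →+* C) (v : Fin d → B) : Fin d → C := fun j => φ (v j)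

@[simp] theorem mapV_apply (φ : B →+* C) (v : Fin d → B) (j : Fin d) : mapV φ v j = φ (v j) := rfl

theorem mapV_add (φ : B →+* C) (v w : Fin d → B) : mapV φ (v + w) = mapV φ v + mapV φ w := by
  ext j; simp

theorem mapV_smul (φ : B →+* C) (b : B) (w : Fin d → B) : mapV φ (b • w) = φ b • mapV φ w := by
  ext j; simp

theorem mapV_zero (φ : B →+* C) : mapV φ (0 : Fin d → B) = 0 := by
  ext j; simp

theorem mapV_mem {φ : B →+* C} {L : Submodule B (Fin d → B)} {v : Fin d → B} (hv : v ∈ L) : mapV φ v ∈ bc φ L :=
  mem_bc_of_mem φ hv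

/-- base change commutes with images under compatible linear maps -/
theorem bc_map (φ : B →+* C) (F : (Fin d → B) →ₗ[B] (Fin d → B)) (F' : (Fin d → C) →ₗ[C] (Fin d → C))
    (h : ∀ v, mapV φ (F v) = F' (mapV φ v)) (L : Submodule B (Fin d → B)) :
    bc φ (L.map F) = (bc φ L).map F' := by
  apply le_antisymm
  · rw [bc_le_iff]
    rintro _ ⟨v, hv, rfl⟩
    exact ⟨mapV φ v, mapV_mem hv, (h v).symm⟩
  · rw [Submodule.map_le_iff_le_comap, bc_le_iff]
    intro v hv
    rw [Submodule.mem_comap]
    have h1 := h v
    change F' (mapV φ v) ∈ _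
    rw [← h1]
    exact mapV_mem ⟨v, hv, rfl⟩

theorem bc_top (φ : B →+* C) : bc φ (⊤ : Submodule B (Fin d → B)) = ⊤ := by
  rw [eq_top_iff]
  intro v _
  have h : v = ∑ j, v j • mapV φ (Pi.single j 1) := by
    ext k
    rw [Finset.sum_apply, Finset.sum_eq_single k]
    · simp
    · intro b _ hb
      simp [hb.symm]
    · intro h
      exact absurd (Finset.mem_univ _) h
  rw [h]
  exact Submodule.sum_mem _ fun j _ => Submodule.smul_mem _ _ (mapV_mem trivial)

theorem bc_span' {κ : Type*} (φ : B →+* C) (v : κ → Fin d → B) :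
    bc φ (Submodule.span B (Set.range v)) = Submodule.span C (Set.range fun k => mapV φ (v k)) :=
  bc_span φ v

/-- The quotient by the span of vectors with an invertible minor. -/
theorem isQuotRank_span (hr : r ≤ d) (v : Fin r → Fin d → B) (ρ : Fin r → Fin d)
    (h : IsUnit (Matrix.of fun a b => v a (ρ b)).det) :
    IsQuotRank (d - r) (Submodule.span B (Set.range v)) := by
  set N : Matrix (Fin r) (Fin r) B := (Matrix.of fun a b => v a (ρ b)).transpose with hN
  have hNdet : IsUnit N.det := by rwa [hN, Matrix.det_transpose]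
  let Vm : Matrix (Fin d) (Fin r) B := Matrix.of fun j a => v a j
  have h1 : Vm.submatrix ρ id = N := by
    ext b a
    rfl
  have h2 : IsGraphOf ρ (Vm * N⁻¹) (Submodule.span B (Set.range v)) := by
    constructor
    · have h3 : (Vm * N⁻¹).submatrix ρ id = (Vm.submatrix ρ id) * N⁻¹ := by
        ext a b
        rfl
      rw [h3, h1, Matrix.mul_nonsing_inv _ hNdet]
    · apply le_antisymm
      · rw [Submodule.span_le]
        rintro _ ⟨a, rfl⟩
        refine mem_rangeM.2 ⟨N *ᵥ Pi.single a 1, ?_⟩
        rw [Matrix.mulVec_mulVec, Matrix.mul_assoc, Matrix.nonsing_inv_mul _ hNdet, Matrix.mul_one,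
          Matrix.mulVec_single_one]
        rfl
      · intro w hw
        obtain ⟨u, rfl⟩ := mem_rangeM.1 hw
        rw [← Matrix.mulVec_mulVec]
        have h3 : ∀ z : Fin r → B, Vm *ᵥ z = ∑ a, z a • v a := by
          intro z
          ext j
          rw [Finset.sum_apply]
          simp only [Matrix.mulVec, dotProduct, Vm, Matrix.of_apply, Pi.smul_apply, smul_eq_mul]
          exact Finset.sum_congr rfl fun a _ => mul_comm _ _
        rw [h3]
        exact Submodule.sum_mem _ fun a _ => Submodule.smul_mem _ _ (Submodule.subset_span ⟨a, rfl⟩)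
  exact h2.isQuotRank (by rw [Fintype.card_fin]; omega)

end basic

section field

variable {B : Type*} [CommRing B] {K K' : Type*} [Field K] [Field K'] {d r m : ℕ}

theorem exists_minor (v : Fin m → Fin d → K) (h : LinearIndependent K v) :
    ∃ ρ : Fin m → Fin d, (Matrix.of fun a b => v a (ρ b)).det ≠ 0 := by
  obtain ⟨σ, hσ⟩ := Groth.Agent.Lefpen.H718.Minor.exists_minor (Matrix.of v) h
  exact ⟨σ, hσ⟩

theorem li_of_minor (v : Fin m → Fin d → K) (ρ : Fin m → Fin d)
    (h : (Matrix.of fun a b => v a (ρ b)).det ≠ 0) : LinearIndependent K v := by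
  have h1 : LinearIndependent K (Matrix.of fun a b => v a (ρ b)).row :=
    Matrix.linearIndependent_rows_iff_isUnit.2 ((Matrix.isUnit_iff_isUnit_det _).2 (isUnit_iff_ne_zero.2 h))
  have h2 : (Matrix.of fun a b => v a (ρ b)).row = (LinearMap.funLeft K K ρ) ∘ v := by
    ext a b
    rfl
  rw [h2] at h1
  exact h1.of_comp _

theorem map_minor {B C : Type*} [CommRing B] [CommRing C] (φ : B →+* C) (v : Fin m → Fin d → B) (ρ : Fin m → Fin d) :
    (Matrix.of fun a b => mapV φ (v a) (ρ b)).det = φ (Matrix.of fun a b => v a (ρ b)).det := by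
  rw [RingHom.map_det]
  rfl

/-- independent residues give independent vectors on an open neighbourhood -/
theorem exists_li (φ : B →+* K) (v : Fin m → Fin d → B) (h : LinearIndependent K fun a => mapV φ (v a)) :
    ∃ b : B, φ b ≠ 0 ∧ ∀ {K' : Type*} [Field K'] (ψ : B →+* K'), ψ b ≠ 0 →
      LinearIndependent K' fun a => mapV ψ (v a) := by
  obtain ⟨ρ, hρ⟩ := exists_minor _ h
  rw [map_minor] at hρ
  refine ⟨(Matrix.of fun a b => v a (ρ b)).det, hρ, ?_⟩
  intro K' _ ψ hψ
  refine li_of_minor _ ρ ?_
  rwa [map_minor]

theorem li_map_iff (φ : K →+* K') (v : Fin m → Fin d → K) :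
    (LinearIndependent K' fun a => mapV φ (v a)) ↔ LinearIndependent K v := by
  constructor
  · intro h
    obtain ⟨ρ, hρ⟩ := exists_minor _ h
    rw [map_minor] at hρ
    exact li_of_minor _ ρ fun h0 => hρ (by rw [h0, map_zero])
  · intro h
    obtain ⟨ρ, hρ⟩ := exists_minor _ h
    refine li_of_minor _ ρ ?_
    rw [map_minor]
    exact fun h0 => hρ (φ.injective (by rw [h0, map_zero]))

/-- ranks do not change under field extensions -/
theorem finrank_bc (φ : K →+* K') (L : Submodule K (Fin d → K)) : finrank K' (bc φ L) = finrank K L := by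
  let b := finBasis K L
  let v : Fin (finrank K L) → Fin d → K := fun a => b a
  have h1 : LinearIndependent K v := b.linearIndependent.map' L.subtype L.ker_subtype
  have h2 : L = Submodule.span K (Set.range v) := by
    have h3 : v = L.subtype ∘ b := rfl
    rw [h3, Set.range_comp, Submodule.span_image, b.span_eq, Submodule.map_subtype_top]
  conv_lhs => rw [h2]
  rw [bc_span', finrank_span_eq_card ((li_map_iff φ v).2 h1), Fintype.card_fin]

theorem finrank_of_isQuotRank {c : ℕ} {L : Submodule K (Fin d → K)} (h : IsQuotRank c L) : finrank K L + c = d := by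
  have h1 := h.rank ⊥
  rw [Module.rankAtStalk_eq_finrank_of_free] at h1
  have h2 := Submodule.finrank_quotient_add_finrank L
  rw [Module.finrank_fin_fun] at h2
  simp only [Pi.natCast_apply, Nat.cast_id] at h1
  omega

theorem isQuotRank_of_finrank {c : ℕ} {L : Submodule K (Fin d → K)} (h : finrank K L + c = d) : IsQuotRank c L := by
  refine ⟨inferInstance, fun p => ?_⟩
  rw [Module.rankAtStalk_eq_finrank_of_free]
  have h2 := Submodule.finrank_quotient_add_finrank L
  rw [Module.finrank_fin_fun] at h2
  simp only [Pi.natCast_apply, Nat.cast_id]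
  omega

/-- The quotient by the span of vectors over a local ring with independent residues. -/
theorem isQuotRank_span_of_li [IsLocalRing B] (φ : B →+* K) [IsLocalHom φ] (v : Fin r → Fin d → B)
    (h : LinearIndependent K fun a => mapV φ (v a)) : IsQuotRank (d - r) (Submodule.span B (Set.range v)) := by
  have hr : r ≤ d := by
    have h1 := h.fintype_card_le_finrank
    rwa [Fintype.card_fin, Module.finrank_fin_fun] at h1
  obtain ⟨ρ, hρ⟩ := exists_minor _ h
  rw [map_minor] at hρ
  exact isQuotRank_span hr v ρ (isUnit_of_map_unit φ _ (isUnit_iff_ne_zero.2 hρ))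

/-- Vectors of a direct summand over a local ring whose residues are independent span it. -/
theorem span_eq_of_li [IsLocalRing B] (φ : B →+* K) [IsLocalHom φ] {L : Submodule B (Fin d → B)}
    (hL : IsQuotRank (d - r) L) (v : Fin r → Fin d → B) (hv : ∀ a, v a ∈ L)
    (h : LinearIndependent K fun a => mapV φ (v a)) : Submodule.span B (Set.range v) = L := by
  refine eq_of_le_of_isQuotRank ?_ (isQuotRank_span_of_li φ v h) hL
  rw [Submodule.span_le]
  rintro _ ⟨a, rfl⟩
  exact hv a

/-- A spanning family of the right cardinality is independent. -/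
theorem li_of_span {L : Submodule K (Fin d → K)} (h : finrank K L = r) (v : Fin r → Fin d → K)
    (hv : Submodule.span K (Set.range v) = L) : LinearIndependent K v := by
  rw [linearIndependent_iff_card_eq_finrank_span, Fintype.card_fin, Set.finrank, hv, h]

/-- independent vectors in the base change of a submodule, coming from the submodule -/
theorem exists_li_of_le (φ : B →+* K) (L : Submodule B (Fin d → B)) (h : m ≤ finrank K (bc φ L)) :
    ∃ v : Fin m → Fin d → B, (∀ a, v a ∈ L) ∧ LinearIndependent K fun a => mapV φ (v a) := by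
  obtain ⟨f, hf, hspan, hli⟩ := Submodule.exists_fun_fin_finrank_span_eq K (mapV φ '' (L : Set (Fin d → B)))
  choose w hw hw' using hf
  have h' : m ≤ finrank K (Submodule.span K (mapV φ '' (L : Set (Fin d → B)))) := h
  refine ⟨fun a => w (Fin.castLE h' a), fun a => hw _, ?_⟩
  have h1 : (fun a : Fin m => mapV φ (w (Fin.castLE h' a))) = f ∘ Fin.castLE h' := by
    funext a
    exact hw' _
  rw [h1]
  exact hli.comp _ (Fin.castLE_injective h')

end field

end K678.LocSpan
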