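import Groth.Agent.W4c1limliniiii.K678.ExactField
import Groth.Agent.W4c1limliniiii.K678.LocSpan

/-!
One-step deformations of non-exact linked tuples over a field: the tuple `V` over `K` is deformed to the tuple spanned by
the vectors `x + t E_j x`, `x ∈ V_j`, over a ring containing `K` and an element `t`.
-/

set_option autoImplicit false

open Module

namespace K678.Deform

open K189.Chain K678.Exact K678.LocSpan Groth.Agent.Fga.GrassBasic

/-- the hypotheses on a chain over a field -/
structure ChainHyp {K : Type*} [Field K] {d : ℕ} (F G : ℕ → ((Fin d → K) →ₗ[K] (Fin d → K))) (s : K) (n : ℕ) :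
    Prop where
  hFG : ∀ i < n, ∀ x, F i (G i x) = s • x
  hGF : ∀ i < n, ∀ x, G i (F i x) = s • x
  hII : ∀ i < n, d ≤ finrank K (LinearMap.range (F i)) + finrank K (LinearMap.range (G i))
  hIII : ∀ i, i + 1 < n → LinearMap.range (F i) ⊓ LinearMap.ker (F (i + 1)) = ⊥
  hIII' : ∀ i, i + 1 < n → LinearMap.range (G (i + 1)) ⊓ LinearMap.ker (G i) = ⊥

section algebra

variable {K : Type*} [Field K] {d : ℕ} {F G : ℕ → ((Fin d → K) →ₗ[K] (Fin d → K))} {n r : ℕ}
  {V : ℕ → Submodule K (Fin d → K)}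

/-- reversing a chain -/
def rev {α : Type*} (m : ℕ) (F : ℕ → α) (i : ℕ) : α := F (m - i)

theorem ChainHyp.rev {s : K} (h : ChainHyp F G s n) : ChainHyp (rev (n - 1) G) (rev (n - 1) F) s n where
  hFG i hi x := h.hGF _ (by omega) x
  hGF i hi x := h.hFG _ (by omega) x
  hII i hi := by
    have := h.hII (n - 1 - i) (by omega)
    unfold Deform.rev
    omega
  hIII i hi := by
    have := h.hIII' (n - 1 - (i + 1)) (by omega)
    unfold Deform.rev
    rwa [show n - 1 - (i + 1) + 1 = n - 1 - i by omega] at this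
  hIII' i hi := by
    have := h.hIII (n - 1 - (i + 1)) (by omega)
    unfold Deform.rev
    rwa [show n - 1 - (i + 1) + 1 = n - 1 - i by omega] at this

theorem ker_G_eq (h : ChainHyp F G 0 n) {i : ℕ} (hi : i < n) : LinearMap.ker (G i) = LinearMap.range (F i) := by
  symm
  apply Submodule.eq_of_le_of_finrank_le
  · rintro _ ⟨x, rfl⟩
    rw [LinearMap.mem_ker, h.hGF i hi, zero_smul]
  · have h1 := LinearMap.finrank_range_add_finrank_ker (G i)
    rw [Module.finrank_fin_fun] at h1
    have := h.hII i hi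
    omega

theorem ker_F_eq (h : ChainHyp F G 0 n) {i : ℕ} (hi : i < n) : LinearMap.ker (F i) = LinearMap.range (G i) := by
  symm
  apply Submodule.eq_of_le_of_finrank_le
  · rintro _ ⟨x, rfl⟩
    rw [LinearMap.mem_ker, h.hFG i hi, zero_smul]
  · have h1 := LinearMap.finrank_range_add_finrank_ker (F i)
    rw [Module.finrank_fin_fun] at h1
    have := h.hII i hi
    omega

/-- going back to the vertex `0` has no more kernel than one step back -/
theorem ker_push_le (h : ChainHyp F G 0 n) {j : ℕ} (hj : j ≤ n) (x : Fin d → K) (hx : push F G j 0 x = 0) :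
    (j = 0 → x = 0) ∧ ∀ l, j = l + 1 → G l x = 0 := by
  induction j generalizing x with
  | zero =>
    rw [push_self] at hx
    exact ⟨fun _ => hx, fun l hl => absurd hl (by omega)⟩
  | succ j ih =>
    refine ⟨fun h0 => absurd h0 (by omega), ?_⟩
    intro l hl
    obtain rfl : j = l := by omega
    have h1 : push F G (j + 1) 0 x = push F G j 0 (G j x) := by
      rw [push, if_neg (by omega), push]
      split_ifs with h2
      · obtain rfl : j = 0 := by omega
        rfl
      · rw [show j + 1 - 0 = (j - 0) + 1 by omega, bw, LinearMap.comp_apply, show 0 + (j - 0) = j by omega]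
    rw [h1] at hx
    obtain ⟨h2, h3⟩ := ih (by omega) (G j x) hx
    rcases Nat.eq_zero_or_pos j with rfl | hj'
    · exact h2 rfl
    · obtain ⟨m, rfl⟩ := Nat.exists_eq_succ_of_ne_zero hj'.ne'
      have h4 := h3 m rfl
      have h5 : G (m + 1) x ∈ LinearMap.range (G (m + 1)) ⊓ LinearMap.ker (G m) := ⟨⟨x, rfl⟩, h4⟩
      rw [h.hIII' m (by omega)] at h5
      exact h5

theorem push_succ (F G : ℕ → ((Fin d → K) →ₗ[K] (Fin d → K))) (j : ℕ) (x : Fin d → K) :
    push F G (j + 1) 0 x = push F G j 0 (G j x) := by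
  rw [push, if_neg (by omega), push]
  split_ifs with h2
  · obtain rfl : j = 0 := by omega
    rfl
  · rw [show j + 1 - 0 = (j - 0) + 1 by omega, bw, LinearMap.comp_apply, show 0 + (j - 0) = j by omega]

/-- the deformation is linked -/
structure LinkE (F G : ℕ → ((Fin d → K) →ₗ[K] (Fin d → K))) (n : ℕ) (V : ℕ → Submodule K (Fin d → K))
    (E : ℕ → ((Fin d → K) →ₗ[K] (Fin d → K))) : Prop where
  hF : ∀ j < n, ∀ x ∈ V j, F j (E j x) - E (j + 1) (F j x) ∈ V (j + 1) ⊓ LinearMap.ker (E (j + 1))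
  hG : ∀ j < n, ∀ x ∈ V (j + 1), G j (E (j + 1) x) - E j (G j x) ∈ V j ⊓ LinearMap.ker (E j)

theorem LinkE.rev {E : ℕ → ((Fin d → K) →ₗ[K] (Fin d → K))}
    (h : LinkE (Deform.rev (n - 1) G) (Deform.rev (n - 1) F) n (Deform.rev n V) E) : LinkE F G n V (Deform.rev n E) where
  hF j hj x hx := by
    have h1 := h.hG (n - 1 - j) (by omega) x (by
      unfold Deform.rev
      rwa [show n - (n - 1 - j + 1) = j by omega])
    unfold Deform.rev at h1 ⊢
    rwa [show n - 1 - (n - 1 - j) = j by omega, show n - 1 - j + 1 = n - j by omega,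
      show n - (n - 1 - j) = j + 1 by omega, show n - 1 - j = n - (j + 1) by omega] at h1
  hG j hj x hx := by
    have h1 := h.hF (n - 1 - j) (by omega) x (by
      unfold Deform.rev
      rwa [show n - (n - 1 - j) = j + 1 by omega])
    unfold Deform.rev at h1 ⊢
    rwa [show n - 1 - (n - 1 - j) = j by omega, show n - 1 - j + 1 = n - j by omega,
      show n - (n - j) = j by omega, show n - 1 - j = n - (j + 1) by omega] at h1

/-- the deformation increases the rank of `φ` on `W` -/
def Jump (φ : (Fin d → K) →ₗ[K] (Fin d → K)) (W : Submodule K (Fin d → K)) (E : (Fin d → K) →ₗ[K] (Fin d → K)) : Prop :=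
  ∃ w ∈ W, φ w = 0 ∧ φ (E w) ∉ W.map φ ∧ ∀ x ∈ W, ∃ a : K, φ (E x) = a • φ (E w)

/-- The deformation increasing the rank of `F i` and keeping the rank of `G i`. -/
theorem exists_defF (h : ChainHyp F G 0 n) (hL : Linked F G n V) (hr : ∀ i ≤ n, finrank K (V i) = r) {i : ℕ}
    (hi : i < n) (hlt : finrank K ↥((V i).map (F i)) + finrank K ↥((V (i + 1)).map (G i)) < r) :
    ∃ E : ℕ → ((Fin d → K) →ₗ[K] (Fin d → K)), LinkE F G n V E ∧ Jump (F i) (V i) (E i) ∧ E (i + 1) = 0 := by
  -- the vectors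
  have h1 := finrank_map_add (G i) (V (i + 1))
  rw [hr (i + 1) (by omega)] at h1
  have h2 : (V i).map (F i) ≤ LinearMap.ker (G i) ⊓ V (i + 1) := by
    refine le_inf ?_ (hL.hF i hi)
    rintro _ ⟨x, hx, rfl⟩
    rw [LinearMap.mem_ker, h.hGF i hi, zero_smul]
  have h3 := finrank_map_add (F i) (V i)
  rw [hr i hi.le] at h3
  have h4 : (V (i + 1)).map (G i) ≤ LinearMap.ker (F i) ⊓ V i := by
    refine le_inf ?_ (hL.hG i hi)
    rintro _ ⟨x, hx, rfl⟩
    rw [LinearMap.mem_ker, h.hFG i hi, zero_smul]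
  obtain ⟨v, ⟨hv1, hv2⟩, hv3⟩ : ∃ v ∈ LinearMap.ker (G i) ⊓ V (i + 1), v ∉ (V i).map (F i) := by
    by_contra hcon
    push Not at hcon
    have := Submodule.finrank_mono (show LinearMap.ker (G i) ⊓ V (i + 1) ≤ (V i).map (F i) from hcon)
    omega
  obtain ⟨w, ⟨hw1, hw2⟩, hw3⟩ : ∃ w ∈ LinearMap.ker (F i) ⊓ V i, w ∉ (V (i + 1)).map (G i) := by
    by_contra hcon
    push Not at hcon
    have := Submodule.finrank_mono (show LinearMap.ker (F i) ⊓ V i ≤ (V (i + 1)).map (G i) from hcon)
    omega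
  have hv1' := hv1
  rw [SetLike.mem_coe, ker_G_eq h hi] at hv1'
  obtain ⟨v', hv'⟩ := hv1'
  -- the functional
  have hne : push F G i 0 w ∉ ((V (i + 1)).map (G i)).map (push F G i 0) := by
    rintro ⟨_, ⟨u, hu, rfl⟩, hu'⟩
    have h5 : push F G i 0 (w - G i u) = 0 := by rw [map_sub, hu', sub_self]
    have h6 : w - G i u ∈ LinearMap.range (G i) := by
      have h7 := hw1
      rw [SetLike.mem_coe, ker_F_eq h hi] at h7
      exact Submodule.sub_mem _ h7 ⟨u, rfl⟩
    obtain ⟨h8, h9⟩ := ker_push_le h hi.le _ h5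
    have h10 : w - G i u = 0 := by
      rcases Nat.eq_zero_or_pos i with h0 | hi'
      · exact h8 h0
      · obtain ⟨m, rfl⟩ := Nat.exists_eq_succ_of_ne_zero hi'.ne'
        have h11 : w - G (m + 1) u ∈ LinearMap.range (G (m + 1)) ⊓ LinearMap.ker (G m) := ⟨h6, h9 m rfl⟩
        rw [h.hIII' m hi] at h11
        exact h11
    exact hw3 ⟨u, hu, (sub_eq_zero.1 h10).symm⟩
  obtain ⟨μ, hμ1, hμ2⟩ := Submodule.exists_dual_map_eq_bot_of_notMem hne inferInstance
  let lam : (Fin d → K) →ₗ[K] K := (μ (push F G i 0 w))⁻¹ • μ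
  have hlam1 : lam (push F G i 0 w) = 1 := by
    simp only [lam, LinearMap.smul_apply, smul_eq_mul]
    exact inv_mul_cancel₀ hμ1
  have hlam2 : ∀ u ∈ V (i + 1), lam (push F G i 0 (G i u)) = 0 := by
    intro u hu
    have h5 : μ (push F G i 0 (G i u)) ∈ (((V (i + 1)).map (G i)).map (push F G i 0)).map μ :=
      ⟨_, ⟨_, ⟨u, hu, rfl⟩, rfl⟩, rfl⟩
    rw [hμ2] at h5
    simp only [lam, LinearMap.smul_apply, smul_eq_mul]
    rw [(Submodule.mem_bot K).1 h5, mul_zero]
  -- the endomorphisms
  let E : ℕ → ((Fin d → K) →ₗ[K] (Fin d → K)) := fun j =>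
    if j ≤ i then (lam.comp (push F G j 0)).smulRight (push F G i j v') else 0
  have hE : ∀ j, j ≤ i → ∀ x, E j x = lam (push F G j 0 x) • push F G i j v' := by
    intro j hj x
    simp only [E, if_pos hj]
    rfl
  have hE' : ∀ j, i < j → E j = 0 := by
    intro j hj
    simp only [E, if_neg (not_le.2 hj)]
  have hlamF : ∀ j, j < i → ∀ x, lam (push F G (j + 1) 0 (F j x)) = 0 := by
    intro j hj x
    rw [push_succ, h.hGF j (by omega), zero_smul, map_zero, map_zero]
  refine ⟨E, ⟨?_, ?_⟩, ⟨w, hw2, hw1, ?_, ?_⟩, hE' _ (Nat.lt_succ_self i)⟩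
  · intro j hj x hx
    rcases lt_trichotomy j i with hji | rfl | hji
    · have h5 : F j (E j x) - E (j + 1) (F j x) = 0 := by
        rw [hE j hji.le, hE (j + 1) hji, hlamF j hji, zero_smul, sub_zero, map_smul,
          F_push' h.hFG hj hji, zero_smul, smul_zero]
      rw [h5]
      exact Submodule.zero_mem _
    · rw [hE' (j + 1) (Nat.lt_succ_self j), LinearMap.zero_apply, sub_zero, LinearMap.ker_zero, inf_top_eq, hE j le_rfl,
        map_smul, push_self, hv']
      exact Submodule.smul_mem _ _ hv2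
    · rw [hE' j hji, hE' (j + 1) (by omega), LinearMap.zero_apply, LinearMap.zero_apply, map_zero, sub_zero]
      exact Submodule.zero_mem _
  · intro j hj x hx
    rcases lt_trichotomy j i with hji | rfl | hji
    · have h5 : G j (E (j + 1) x) - E j (G j x) = 0 := by
        rw [hE j hji.le, hE (j + 1) hji, map_smul, G_push F G hji, push_succ, sub_self]
      rw [h5]
      exact Submodule.zero_mem _
    · rw [hE' (j + 1) (Nat.lt_succ_self j), LinearMap.zero_apply, map_zero, hE j le_rfl, hlam2 x hx, zero_smul, sub_zero]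
      exact Submodule.zero_mem _
    · rw [hE' j hji, hE' (j + 1) (by omega), LinearMap.zero_apply, LinearMap.zero_apply, map_zero, sub_zero]
      exact Submodule.zero_mem _
  · rw [hE i le_rfl, hlam1, one_smul, push_self, hv']
    exact hv3
  · intro x hx
    refine ⟨lam (push F G i 0 x), ?_⟩
    rw [hE i le_rfl, hE i le_rfl, hlam1, one_smul, map_smul]

/-- The deformation increasing the rank of `G i` and keeping the rank of `F i`. -/
theorem exists_defG (h : ChainHyp F G 0 n) (hL : Linked F G n V) (hr : ∀ i ≤ n, finrank K (V i) = r) {i : ℕ}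
    (hi : i < n) (hlt : finrank K ↥((V i).map (F i)) + finrank K ↥((V (i + 1)).map (G i)) < r) :
    ∃ E : ℕ → ((Fin d → K) →ₗ[K] (Fin d → K)), LinkE F G n V E ∧ Jump (G i) (V (i + 1)) (E (i + 1)) ∧ E i = 0 := by
  have hL' : Linked (rev (n - 1) G) (rev (n - 1) F) n (rev n V) := by
    constructor
    · intro j hj
      have h1 := hL.hG (n - 1 - j) (by omega)
      unfold rev
      rw [show n - 1 - j + 1 = n - j by omega] at h1
      rwa [show n - (j + 1) = n - 1 - j by omega]
    · intro j hj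
      have h1 := hL.hF (n - 1 - j) (by omega)
      unfold rev
      rw [show n - 1 - j + 1 = n - j by omega] at h1
      rwa [show n - (j + 1) = n - 1 - j by omega]
  have hlt' : finrank K ↥((rev n V (n - 1 - i)).map (rev (n - 1) G (n - 1 - i))) +
      finrank K ↥((rev n V (n - 1 - i + 1)).map (rev (n - 1) F (n - 1 - i))) < r := by
    unfold rev
    rw [show n - 1 - (n - 1 - i) = i by omega, show n - (n - 1 - i) = i + 1 by omega,
      show n - (n - 1 - i + 1) = i by omega]
    omega
  obtain ⟨E, hE1, hE2, hE3⟩ := exists_defF h.rev hL' (fun j hj => hr _ (by omega)) (by omega) hlt'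
  refine ⟨rev n E, hE1.rev, ?_, ?_⟩
  · unfold rev at hE2 ⊢
    rwa [show n - 1 - (n - 1 - i) = i by omega, show n - (n - 1 - i) = i + 1 by omega,
      show n - 1 - i = n - (i + 1) by omega] at hE2
  · unfold rev
    rwa [show n - 1 - i + 1 = n - i by omega] at hE3

end algebra

section span

variable {K : Type*} [Field K] {d : ℕ} {A : Type*} [CommRing A]

/-- the span of the vectors `x + t E x` for `x ∈ V` -/
def defSub (ι : K →+* A) (t : A) (V : Submodule K (Fin d → K)) (E : (Fin d → K) →ₗ[K] (Fin d → K)) :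
    Submodule A (Fin d → A) :=
  Submodule.span A ((fun x => mapV ι x + t • mapV ι (E x)) '' (V : Set (Fin d → K)))

theorem mem_defSub (ι : K →+* A) (t : A) {V : Submodule K (Fin d → K)} (E : (Fin d → K) →ₗ[K] (Fin d → K))
    {x : Fin d → K} (hx : x ∈ V) : mapV ι x + t • mapV ι (E x) ∈ defSub ι t V E := Submodule.subset_span ⟨x, hx, rfl⟩

theorem map_defSub_le (ι : K →+* A) (t : A) {V V' : Submodule K (Fin d → K)} {E E' : (Fin d → K) →ₗ[K] (Fin d → K)}
    {φ : (Fin d → K) →ₗ[K] (Fin d → K)} {φ' : (Fin d → A) →ₗ[A] (Fin d → A)}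
    (hφ : ∀ x, φ' (mapV ι x) = mapV ι (φ x)) (hV : V.map φ ≤ V')
    (h : ∀ x ∈ V, φ (E x) - E' (φ x) ∈ V' ⊓ LinearMap.ker E') :
    (defSub ι t V E).map φ' ≤ defSub ι t V' E' := by
  rw [defSub, Submodule.map_span_le]
  rintro _ ⟨x, hx, rfl⟩
  obtain ⟨h1, h2⟩ := h x hx
  rw [map_add, map_smul, hφ, hφ]
  have h3 := mem_defSub ι t E' (hV ⟨x, hx, rfl⟩)
  have h4 := Submodule.smul_mem _ t (mem_defSub ι t E' h1)
  have h5 := Submodule.add_mem _ h3 h4
  rw [show E' (φ (E x) - E' (φ x)) = 0 from h2, mapV_zero, smul_zero, add_zero] at h5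
  have h6 : φ (E x) = (φ (E x) - E' (φ x)) + E' (φ x) := (sub_add_cancel _ _).symm
  rw [h6, mapV_add]
  convert h5 using 1
  rw [smul_add]
  abel

theorem defSub_eq_span (ι : K →+* A) (t : A) {V : Submodule K (Fin d → K)} (E : (Fin d → K) →ₗ[K] (Fin d → K))
    {κ : Type*} (v : κ → Fin d → K) (hv : Submodule.span K (Set.range v) = V) :
    defSub ι t V E = Submodule.span A (Set.range fun a => mapV ι (v a) + t • mapV ι (E (v a))) := by
  apply le_antisymm
  · rw [defSub, Submodule.span_le]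
    rintro _ ⟨x, hx, rfl⟩
    change x ∈ V at hx
    rw [← hv] at hx
    simp only [SetLike.mem_coe]
    induction hx using Submodule.span_induction with
    | mem x h =>
      obtain ⟨k, rfl⟩ := h
      exact Submodule.subset_span ⟨k, rfl⟩
    | zero => simp [mapV_zero]
    | add x y _ _ hx hy =>
      convert Submodule.add_mem _ hx hy using 1
      rw [map_add, mapV_add, mapV_add, smul_add]
      abel
    | smul a x _ hx =>
      convert Submodule.smul_mem _ (ι a) hx using 1
      rw [map_smul, mapV_smul, mapV_smul, smul_add, smul_comm]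
  · rw [Submodule.span_le]
    rintro _ ⟨k, rfl⟩
    exact mem_defSub ι t E (hv ▸ Submodule.subset_span ⟨k, rfl⟩)

/-- base change of a deformation -/
theorem bc_defSub {C : Type*} [CommRing C] (φ : A →+* C) (ι : K →+* A) (t : A) (V : Submodule K (Fin d → K))
    (E : (Fin d → K) →ₗ[K] (Fin d → K)) : bc φ (defSub ι t V E) = defSub (φ.comp ι) (φ t) V E := by
  obtain ⟨v, hv⟩ : ∃ v : Fin (finrank K V) → Fin d → K, Submodule.span K (Set.range v) = V := by
    refine ⟨fun a => finBasis K V a, ?_⟩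
    have h3 : (fun a => (finBasis K V a : Fin d → K)) = V.subtype ∘ finBasis K V := rfl
    rw [h3, Set.range_comp, Submodule.span_image, (finBasis K V).span_eq, Submodule.map_subtype_top]
  rw [defSub_eq_span ι t E v hv, defSub_eq_span (φ.comp ι) (φ t) E v hv, bc_span']
  congr 2
  funext a
  rw [mapV_add, mapV_smul]
  rfl

theorem defSub_zero_right (ι : K →+* A) (V : Submodule K (Fin d → K)) (E : (Fin d → K) →ₗ[K] (Fin d → K)) :
    defSub ι 0 V E = bc ι V := by
  unfold defSub bc
  congr 1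
  ext y
  simp only [zero_smul, add_zero]
  rfl

theorem defSub_zero (ι : K →+* A) (t : A) (V : Submodule K (Fin d → K)) : defSub ι t V 0 = bc ι V := by
  unfold defSub bc
  congr 1
  ext y
  simp only [LinearMap.zero_apply, mapV_zero, smul_zero, add_zero]
  rfl

/-- over a local ring with `t` in the maximal ideal the deformation is a direct summand -/
theorem isQuotRank_defSub [IsLocalRing A] {Q : Type*} [Field Q] (π : A →+* Q) [IsLocalHom π] (ι : K →+* A) (t : A)
    (ht : π t = 0) (V : Submodule K (Fin d → K)) (E : (Fin d → K) →ₗ[K] (Fin d → K)) {r : ℕ} (hr : finrank K V = r) :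
    IsQuotRank (d - r) (defSub ι t V E) := by
  subst hr
  obtain ⟨v, hv⟩ : ∃ v : Fin (finrank K V) → Fin d → K, Submodule.span K (Set.range v) = V := by
    refine ⟨fun a => finBasis K V a, ?_⟩
    have h3 : (fun a => (finBasis K V a : Fin d → K)) = V.subtype ∘ finBasis K V := rfl
    rw [h3, Set.range_comp, Submodule.span_image, (finBasis K V).span_eq, Submodule.map_subtype_top]
  rw [defSub_eq_span ι t E v hv]
  refine isQuotRank_span_of_li π _ ?_
  have h1 := (li_map_iff (π.comp ι) v).2 (li_of_span rfl v hv)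
  convert h1 using 2
  rename_i a
  rw [mapV_add, mapV_smul, ht, zero_smul, add_zero]
  rfl

end span

section rank

variable {K Q : Type*} [Field K] [Field Q] {d : ℕ}

/-- the rank goes up -/
theorem Jump.lt {φ : (Fin d → K) →ₗ[K] (Fin d → K)} {V : Submodule K (Fin d → K)}
    {E : (Fin d → K) →ₗ[K] (Fin d → K)} (h : Jump φ V E) (ι : K →+* Q) {t : Q} (ht : t ≠ 0)
    {φ' : (Fin d → Q) →ₗ[Q] (Fin d → Q)} (hφ : ∀ x, φ' (mapV ι x) = mapV ι (φ x)) :
    finrank K (V.map φ) < finrank Q ((defSub ι t V E).map φ') := by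
  obtain ⟨w, hw1, hw2, hw3, hw4⟩ := h
  have h1 : mapV ι (φ (E w)) ∈ (defSub ι t V E).map φ' := by
    have h2 : φ' (mapV ι w + t • mapV ι (E w)) ∈ (defSub ι t V E).map φ' := ⟨_, mem_defSub ι t E hw1, rfl⟩
    rw [map_add, map_smul, hφ, hφ, hw2, mapV_zero, zero_add] at h2
    have h3 := Submodule.smul_mem _ t⁻¹ h2
    rwa [smul_smul, inv_mul_cancel₀ ht, one_smul] at h3
  have h2 : bc ι (V.map φ ⊔ K ∙ φ (E w)) ≤ (defSub ι t V E).map φ' := by
    rw [bc_le_iff]
    intro y hy
    obtain ⟨_, ⟨x, hx, rfl⟩, z, hz, rfl⟩ := Submodule.mem_sup.1 hy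
    obtain ⟨a, rfl⟩ := Submodule.mem_span_singleton.1 hz
    change mapV ι (φ x + a • φ (E w)) ∈ _
    rw [mapV_add, mapV_smul]
    refine Submodule.add_mem _ ?_ (Submodule.smul_mem _ _ h1)
    obtain ⟨b, hb⟩ := hw4 x hx
    have h3 : φ' (mapV ι x + t • mapV ι (E x)) ∈ (defSub ι t V E).map φ' := ⟨_, mem_defSub ι t E hx, rfl⟩
    rw [map_add, map_smul, hφ, hφ, hb, mapV_smul] at h3
    have h4 := Submodule.sub_mem _ h3 (Submodule.smul_mem _ t (Submodule.smul_mem _ (ι b) h1))
    rwa [add_sub_cancel_right] at h4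
  have h3 := Submodule.finrank_mono h2
  rw [finrank_bc] at h3
  refine lt_of_lt_of_le (Submodule.finrank_lt_finrank_of_lt ?_) h3
  rw [left_lt_sup]
  intro h4
  exact hw3 (h4 (Submodule.mem_span_singleton_self _))

end rank

end K678.Deform
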