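import Groth.Agent.W4c1limliniiii.K678.Data
import Groth.Agent.W4c1limliniiii.K678.Deform

/-!
Field-valued points of a linked Grassmannian: rank functions, semicontinuity, specialisations, deformations.
-/

set_option autoImplicit false
universe u

open CategoryTheory CategoryTheory.Limits AlgebraicGeometry TensorProduct Module IsLocalRing

namespace K678.Pts

open K652.AffYoneda Groth.Agent.Fga.GrassBasic K678.LG K678.LocSpan K678.Deform K678.Exact K189.Chain

section general

variable {Y : Scheme.{u}} {K : Type u} [Field K]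

/-- the image point of a field-valued point -/
noncomputable def im (t : Spec (CommRingCat.of K) ⟶ Y) : Y := t (closedPoint K)

/-- a field-valued point factors through the residue field -/
theorem exists_factor (t : Spec (CommRingCat.of K) ⟶ Y) :
    ∃ φ : Y.residueField (im t) ⟶ CommRingCat.of K, Spec.map φ ≫ Y.fromSpecResidueField (im t) = t :=
  ⟨_, Scheme.descResidueField_stalkClosedPointTo_fromSpecResidueField K Y t⟩

theorem im_map {B : CommRingCat.{u}} (φ : B ⟶ CommRingCat.of K) (t : Spec B ⟶ Y) :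
    im (Spec.map φ ≫ t) = t (PrimeSpectrum.comap φ.hom (closedPoint K)) := by
  unfold im
  rw [Scheme.Hom.comp_apply]
  rfl

theorem specializes_of_le {B : CommRingCat.{u}} (t : Spec B ⟶ Y) {p q : PrimeSpectrum B} (h : p ≤ q) :
    t p ⤳ t q :=
  ((PrimeSpectrum.le_iff_specializes p q).1 h).map t.continuous

/-- The generic point of a local ring specialises to the closed one. -/
theorem im_specializes {B : CommRingCat.{u}} [IsLocalRing B] (t : Spec B ⟶ Y) {K Q : Type u} [Field K] [Field Q]
    (φ : B ⟶ CommRingCat.of K) [IsLocalHom φ.hom] (ψ : B ⟶ CommRingCat.of Q) :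
    im (Spec.map ψ ≫ t) ⤳ im (Spec.map φ ≫ t) := by
  rw [im_map, im_map]
  apply specializes_of_le
  have h : PrimeSpectrum.comap φ.hom (closedPoint K) = closedPoint B := IsLocalRing.comap_closedPoint φ.hom
  rw [h]
  exact IsLocalRing.le_maximalIdeal (PrimeSpectrum.comap ψ.hom (closedPoint Q)).2.ne_top

end general

section hyp

variable {R : Type u} [CommRing R] {d n : ℕ} {f g : Fin n → ((Fin d → R) →ₗ[R] (Fin d → R))} {s : R}

theorem mapV_ext {B C : Type u} [CommRing B] [CommRing C] (f : Fin n → ((Fin d → R) →ₗ[R] (Fin d → R)))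
    (ψ : R →+* B) (φ : B →+* C) (i : ℕ) (v : Fin d → B) :
    mapV φ (ext f ψ i v) = ext f (φ.comp ψ) i (mapV φ v) := ext_apply_map f ψ φ i v

theorem bc_map_ext {B C : Type u} [CommRing B] [CommRing C] (f : Fin n → ((Fin d → R) →ₗ[R] (Fin d → R)))
    (ψ : R →+* B) (φ : B →+* C) (i : ℕ) (L : Submodule B (Fin d → B)) :
    bc φ (L.map (ext f ψ i)) = (bc φ L).map (ext f (φ.comp ψ) i) :=
  bc_map φ _ _ (fun v => mapV_ext f ψ φ i v) L

theorem finrank_map_ext {K K' : Type u} [Field K] [Field K'] (f : Fin n → ((Fin d → R) →ₗ[R] (Fin d → R)))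
    (ψ : R →+* K) (φ : K →+* K') (i : ℕ) (L : Submodule K (Fin d → K)) :
    finrank K' ((bc φ L).map (ext f (φ.comp ψ) i)) = finrank K (L.map (ext f ψ i)) := by
  rw [← bc_map_ext, finrank_bc]

theorem finrank_range_ext {K K' : Type u} [Field K] [Field K'] (f : Fin n → ((Fin d → R) →ₗ[R] (Fin d → R)))
    (ψ : R →+* K) (φ : K →+* K') (i : ℕ) :
    finrank K' (LinearMap.range (ext f (φ.comp ψ) i)) = finrank K (LinearMap.range (ext f ψ i)) := by
  rw [← Submodule.map_top, ← Submodule.map_top, ← finrank_map_ext f ψ φ i ⊤, bc_top]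

theorem inf_ker_eq_bot_iff {K : Type*} [Field K] {M : Type*} [AddCommGroup M] [Module K M] [FiniteDimensional K M]
    (L : Submodule K M) (F : M →ₗ[K] M) :
    L ⊓ LinearMap.ker F = ⊥ ↔ finrank K (L.map F) = finrank K L := by
  have h := finrank_map_add F L
  rw [inf_comm, ← Submodule.finrank_eq_zero (R := K)]
  omega

/-- the hypotheses on a chain are stable under extension of fields -/
theorem chainHyp_comp (hI : ∀ i, (f i).comp (g i) = s • LinearMap.id ∧ (g i).comp (f i) = s • LinearMap.id)
    {K K' : Type u} [Field K] [Field K'] (ψ : R →+* K) (φ : K →+* K')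
    (h : ChainHyp (ext f ψ) (ext g ψ) (ψ s) n) :
    ChainHyp (ext f (φ.comp ψ)) (ext g (φ.comp ψ)) (φ.comp ψ s) n where
  hFG := ext_comp f g s (fun i => (hI i).1) _
  hGF := ext_comp g f s (fun i => (hI i).2) _
  hII i hi := by
    rw [finrank_range_ext, finrank_range_ext]
    exact h.hII i hi
  hIII i hi := by
    have h1 := h.hIII i hi
    rw [inf_ker_eq_bot_iff] at h1 ⊢
    rw [finrank_range_ext, ← h1, ← finrank_map_ext f ψ φ (i + 1), ← Submodule.map_top, ← Submodule.map_top, bc_map_ext,
      bc_top]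
  hIII' i hi := by
    have h1 := h.hIII' i hi
    rw [inf_ker_eq_bot_iff] at h1 ⊢
    rw [finrank_range_ext, ← h1, ← finrank_map_ext g ψ φ i, ← Submodule.map_top, ← Submodule.map_top, bc_map_ext,
      bc_top]

end hyp

section data

variable {R : Type u} [CommRing R] {d r n : ℕ} {f g : Fin n → ((Fin d → R) →ₗ[R] (Fin d → R))}
  {X : Over (Spec (CommRingCat.of R))}

theorem linked (D : Data X d (d - r) n f g) {B : CommRingCat.{u}} (t : Spec B ⟶ X.left) :
    Linked (ext f (str X t).hom) (ext g (str X t).hom) n (D.L t) :=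
  ⟨D.f_mem t, D.g_mem t⟩

theorem finrank_L (D : Data X d (d - r) n f g) (hr : r ≤ d) {K : Type u} [Field K]
    (t : Spec (CommRingCat.of K) ⟶ X.left) {i : ℕ} (hi : i ≤ n) : finrank K (D.L t i) = r := by
  have := finrank_of_isQuotRank (D.rank t i hi)
  have h2 : finrank K (D.L t i) + (d - r) = d := this
  omega

/-- the rank of a map on a member of the tuple at a field-valued point -/
noncomputable def rk (D : Data X d (d - r) n f g) (h : Fin n → ((Fin d → R) →ₗ[R] (Fin d → R)))
    {B : CommRingCat.{u}} (t : Spec B ⟶ X.left) (i j : ℕ) : ℕ :=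
  finrank B ((D.L t j).map (ext h (str X t).hom i))

/-- the rank of a map on a member of the tuple at a point -/
noncomputable def rkp (D : Data X d (d - r) n f g) (h : Fin n → ((Fin d → R) →ₗ[R] (Fin d → R)))
    (x : X.left) (i j : ℕ) : ℕ :=
  rk D h (X.left.fromSpecResidueField x) i j

theorem map_L_comp (D : Data X d (d - r) n f g) (h : Fin n → ((Fin d → R) →ₗ[R] (Fin d → R)))
    {B C : CommRingCat.{u}} (t : Spec B ⟶ X.left) (φ : B ⟶ C) {i j : ℕ} (hj : j ≤ n) :
    (D.L (Spec.map φ ≫ t) j).map (ext h (str X (Spec.map φ ≫ t)).hom i) =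
      bc φ.hom ((D.L t j).map (ext h (str X t).hom i)) := by
  rw [D.nat φ t j hj]
  have h1 : str X (Spec.map φ ≫ t) = str X t ≫ φ := (str_comp φ t).symm
  rw [h1, bc_map_ext]
  rfl

theorem rk_comp (D : Data X d (d - r) n f g) (h : Fin n → ((Fin d → R) →ₗ[R] (Fin d → R)))
    {K K' : Type u} [Field K] [Field K'] (t : Spec (CommRingCat.of K) ⟶ X.left)
    (φ : CommRingCat.of K ⟶ CommRingCat.of K') {i j : ℕ} (hj : j ≤ n) :
    rk D h (Spec.map φ ≫ t) i j = rk D h t i j := by
  unfold rk
  rw [map_L_comp D h t φ hj]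
  exact finrank_bc φ.hom _

theorem rkp_im (D : Data X d (d - r) n f g) (h : Fin n → ((Fin d → R) →ₗ[R] (Fin d → R)))
    {K : Type u} [Field K] (t : Spec (CommRingCat.of K) ⟶ X.left) {i j : ℕ} (hj : j ≤ n) :
    rkp D h (im t) i j = rk D h t i j := by
  obtain ⟨φ, hφ⟩ := exists_factor t
  conv_rhs => rw [← hφ]
  exact (rk_comp (K := X.left.residueField (im t)) D h _ φ hj).symm

/-- rank functions are lower semicontinuous -/
theorem isOpen_le_rkp (D : Data X d (d - r) n f g) (h : Fin n → ((Fin d → R) →ₗ[R] (Fin d → R)))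
    {i j : ℕ} (hj : j ≤ n) (m : ℕ) : IsOpen {x : X.left | m ≤ rkp D h x i j} := by
  rw [isOpen_iff_forall_mem_open]
  intro x hx
  obtain ⟨U, hU, hxU, -⟩ := exists_isAffineOpen_mem_and_subset (x := x) (U := ⊤) trivial
  let t : Spec Γ(X.left, U) ⟶ X.left := hU.fromSpec
  obtain ⟨p, hp⟩ : ∃ p, t p = x := by
    have h1 : x ∈ Set.range hU.fromSpec := by
      rw [hU.range_fromSpec]
      exact hxU
    exact h1
  have key : ∀ q : PrimeSpectrum Γ(X.left, U), rkp D h (t q) i j = finrank q.asIdeal.ResidueField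
      (bc (algebraMap Γ(X.left, U) q.asIdeal.ResidueField) ((D.L t j).map (ext h (str X t).hom i))) := by
    intro q
    let φ : Γ(X.left, U) ⟶ CommRingCat.of q.asIdeal.ResidueField :=
      CommRingCat.ofHom (algebraMap Γ(X.left, U) q.asIdeal.ResidueField)
    have h1 : im (Spec.map φ ≫ t) = t q := by
      rw [im_map]
      congr 1
      apply PrimeSpectrum.ext
      ext b
      change algebraMap Γ(X.left, U) q.asIdeal.ResidueField b ∈ maximalIdeal q.asIdeal.ResidueField ↔ _
      rw [IsLocalRing.maximalIdeal_eq_bot, Ideal.mem_bot, Ideal.algebraMap_residueField_eq_zero]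
    rw [← h1, rkp_im D h _ hj]
    unfold rk
    rw [map_L_comp D h t φ hj]
    rfl
  have hx' : m ≤ rkp D h x i j := hx
  rw [← hp, key] at hx'
  obtain ⟨v, hv, hli⟩ := exists_li_of_le _ _ hx'
  obtain ⟨b, hb, hb'⟩ := exists_li _ v hli
  refine ⟨t '' (PrimeSpectrum.basicOpen b : Set (PrimeSpectrum Γ(X.left, U))), ?_, ?_, ?_⟩
  · rintro _ ⟨q, hq, rfl⟩
    change m ≤ rkp D h (t q) i j
    rw [key]
    have h1 : algebraMap Γ(X.left, U) q.asIdeal.ResidueField b ≠ 0 := by
      intro h2
      exact hq (by simpa using h2)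
    have h2 := hb' (algebraMap Γ(X.left, U) q.asIdeal.ResidueField) h1
    have h3 : Submodule.span q.asIdeal.ResidueField (Set.range fun a =>
        mapV (algebraMap Γ(X.left, U) q.asIdeal.ResidueField) (v a)) ≤
        bc (algebraMap Γ(X.left, U) q.asIdeal.ResidueField) ((D.L t j).map (ext h (str X t).hom i)) := by
      rw [Submodule.span_le]
      rintro _ ⟨a, rfl⟩
      exact mapV_mem (hv a)
    have h4 := Submodule.finrank_mono h3
    rwa [finrank_span_eq_card h2, Fintype.card_fin] at h4
  · exact hU.fromSpec.isOpenEmbedding.isOpenMap _ (PrimeSpectrum.basicOpen b).2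
  · refine ⟨p, ?_, hp⟩
    intro h2
    exact hb (by simpa using h2)

/-- the zero locus of a rank is not an invariant of the deformation: rank functions go up under generisation -/
theorem rkp_le_of_specializes (D : Data X d (d - r) n f g) (h : Fin n → ((Fin d → R) →ₗ[R] (Fin d → R)))
    {i j : ℕ} (hj : j ≤ n) {x y : X.left} (hxy : y ⤳ x) : rkp D h x i j ≤ rkp D h y i j :=
  hxy.mem_open (isOpen_le_rkp D h hj (rkp D h x i j)) (show rkp D h x i j ≤ rkp D h x i j from le_rfl)

theorem isLocalHom_constantCoeff (K : Type*) [Field K] : IsLocalHom (PowerSeries.constantCoeff (R := K)) :=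
  ⟨fun _ h => PowerSeries.isUnit_iff_constantCoeff.2 h⟩

/-- A linked deformation of the tuple at a point gives a generisation of the point. -/
theorem exists_gen (D : Data X d (d - r) n f g) (hr : r ≤ d) (x : X.left)
    {E : ℕ → ((Fin d → X.left.residueField x) →ₗ[X.left.residueField x] (Fin d → X.left.residueField x))}
    (hE : LinkE (ext f (str X (X.left.fromSpecResidueField x)).hom) (ext g (str X (X.left.fromSpecResidueField x)).hom)
      n (D.L (X.left.fromSpecResidueField x)) E) :
    ∃ (Q : Type u) (_ : Field Q) (ι : X.left.residueField x →+* Q) (t : Q) (T : Spec (CommRingCat.of Q) ⟶ X.left),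
      t ≠ 0 ∧ im T ⤳ x ∧ (str X T).hom = ι.comp (str X (X.left.fromSpecResidueField x)).hom ∧
      ∀ i ≤ n, D.L T i = defSub ι t (D.L (X.left.fromSpecResidueField x) i) (E i) := by
  let K := X.left.residueField x
  let t₀ : Spec (CommRingCat.of K) ⟶ X.left := X.left.fromSpecResidueField x
  let ψ₀ : R →+* K := (str X t₀).hom
  have hloc := isLocalHom_constantCoeff K
  let ι : K →+* PowerSeries K := PowerSeries.C
  let ψ : CommRingCat.of R ⟶ CommRingCat.of (PowerSeries K) := CommRingCat.ofHom (ι.comp ψ₀)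
  obtain ⟨T, hT1, hT2⟩ := D.exists_pt ψ (fun i => defSub ι PowerSeries.X (D.L t₀ i) (E i))
    (fun i hi => isQuotRank_defSub (PowerSeries.constantCoeff (R := K)) ι PowerSeries.X
      PowerSeries.constantCoeff_X _ _ (finrank_L D hr t₀ hi))
    (fun i hi => map_defSub_le ι _ (φ := ext f ψ₀ i) (φ' := ext f ψ.hom i)
      (fun v => (mapV_ext f ψ₀ ι i v).symm) (D.f_mem t₀ i hi) (hE.hF i hi))
    (fun i hi => map_defSub_le ι _ (φ := ext g ψ₀ i) (φ' := ext g ψ.hom i)
      (fun v => (mapV_ext g ψ₀ ι i v).symm) (D.g_mem t₀ i hi) (hE.hG i hi))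
  let cc : CommRingCat.of (PowerSeries K) ⟶ CommRingCat.of K := CommRingCat.ofHom (PowerSeries.constantCoeff (R := K))
  have h1 : ψ ≫ cc = str X t₀ := by
    ext a
    exact PowerSeries.constantCoeff_C _
  have h2 : Spec.map cc ≫ T = t₀ := by
    apply D.inj
    · rw [Category.assoc, hT1, ← Spec.map_comp, h1, map_str]
    · intro i hi
      rw [D.nat cc T i hi, hT2 i hi]
      change bc (PowerSeries.constantCoeff (R := K)) (defSub ι PowerSeries.X (D.L t₀ i) (E i)) = _
      rw [bc_defSub, PowerSeries.constantCoeff_X, defSub_zero_right]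
      have h3 : (PowerSeries.constantCoeff (R := K)).comp ι = RingHom.id K := by
        ext a
        exact PowerSeries.constantCoeff_C _
      rw [h3]
      exact bc_id _
  let Q := FractionRing (PowerSeries K)
  let q : CommRingCat.of (PowerSeries K) ⟶ CommRingCat.of Q := CommRingCat.ofHom (algebraMap (PowerSeries K) Q)
  have h4 : IsLocalHom cc.hom := hloc
  have h5 : im t₀ = x := Scheme.fromSpecResidueField_apply x _
  refine ⟨Q, inferInstance, (algebraMap (PowerSeries K) Q).comp ι, algebraMap (PowerSeries K) Q PowerSeries.X,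
    Spec.map q ≫ T, ?_, ?_, ?_, ?_⟩
  · intro h0
    rw [FaithfulSMul.algebraMap_eq_zero_iff] at h0
    exact PowerSeries.X_ne_zero h0
  · have h6 := im_specializes (B := CommRingCat.of (PowerSeries K)) T cc q
    rw [h2, h5] at h6
    exact h6
  · have h6 : str X (Spec.map q ≫ T) = str X T ≫ q := (str_comp q T).symm
    have h7 : str X T = ψ := by
      apply Spec.map_injective
      rw [map_str, hT1]
    rw [h6, h7]
    rfl
  · intro i hi
    rw [D.nat q T i hi, hT2 i hi]
    exact bc_defSub _ ι _ _ _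

end data

end K678.Pts
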