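import Groth.Agent.W4c1limliniiii.K678.Types

/-!
Exact points and irreducible components of linked Grassmannians.
-/

set_option autoImplicit false
universe u

open CategoryTheory AlgebraicGeometry TensorProduct Module IsLocalRing

namespace K678.Comp

open K652.AffYoneda Groth.Agent.Fga.GrassBasic K678.LG K678.LocSpan K678.Deform K678.Exact K189.Chain K678.Pts
  K678.Types

variable {R : Type u} [CommRing R] {d r n : ℕ} {f g : Fin n → ((Fin d → R) →ₗ[R] (Fin d → R))} {s : R}
  {X : Over (Spec (CommRingCat.of R))}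

/-- the hypotheses on the chain at all field-valued points of the base -/
def Hyp (f g : Fin n → ((Fin d → R) →ₗ[R] (Fin d → R))) (s : R) : Prop :=
  ∀ (K : Type u) [Field K] (ψ : R →+* K), ChainHyp (ext f ψ) (ext g ψ) (ψ s) n

/-- exact points -/
def exP (D : Data X d (d - r) n f g) (x : X.left) : Prop :=
  IsEx (ext f (str X (X.left.fromSpecResidueField x)).hom) (ext g (str X (X.left.fromSpecResidueField x)).hom) n
    (D.L (X.left.fromSpecResidueField x))

/-- the scalar vanishes at a point -/
def van (X : Over (Spec (CommRingCat.of R))) (s : R) (x : X.left) : Prop :=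
  (str X (X.left.fromSpecResidueField x)).hom s = 0

theorem van_im {K : Type u} [Field K] (T : Spec (CommRingCat.of K) ⟶ X.left) :
    van X s (im T) ↔ (str X T).hom s = 0 := by
  obtain ⟨φ, hφ⟩ := exists_factor T
  unfold van
  have h1 : (str X T).hom s = φ.hom ((str X (X.left.fromSpecResidueField (im T))).hom s) := by
    conv_lhs => rw [← hφ]
    have h2 : str X (Spec.map φ ≫ X.left.fromSpecResidueField (im T)) =
      str X (X.left.fromSpecResidueField (im T)) ≫ φ := (str_comp φ _).symm
    rw [h2]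
    rfl
  rw [h1]
  exact (map_eq_zero (G₀ := X.left.residueField (im T)) φ.hom).symm

theorem exP_of_not_van (D : Data X d (d - r) n f g) (hyp : Hyp f g s) {x : X.left} (hx : ¬ van X s x) : exP D x := by
  have h := hyp (X.left.residueField x) (str X (X.left.fromSpecResidueField x)).hom
  exact isEx_of_ne_zero (K := X.left.residueField x) hx h.hFG h.hGF (linked D _)

theorem isEx_im_iff (D : Data X d (d - r) n f g) (hr : r ≤ d) (hyp : Hyp f g s) {K : Type u} [Field K]
    (T : Spec (CommRingCat.of K) ⟶ X.left) (hs : (str X T).hom s = 0) :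
    IsEx (ext f (str X T).hom) (ext g (str X T).hom) n (D.L T) ↔
      ∀ i < n, rkp D f (im T) i i + rkp D g (im T) i (i + 1) = r := by
  have h := hyp K (str X T).hom
  rw [hs] at h
  rw [isEx_iff_rank (fun i hi x => by rw [h.hFG i hi, zero_smul]) (fun i hi x => by rw [h.hGF i hi, zero_smul])
    (linked D T) (fun i hi => finrank_L D hr T hi)]
  refine forall_congr' fun i => forall_congr' fun hi => ?_
  rw [rkp_im D f T hi.le, rkp_im D g T (Nat.succ_le_of_lt hi)]
  rfl

theorem rkp_add_le (D : Data X d (d - r) n f g) (hr : r ≤ d) (hyp : Hyp f g s) {x : X.left} (hx : van X s x) {i : ℕ}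
    (hi : i < n) : rkp D f x i i + rkp D g x i (i + 1) ≤ r := by
  have h := hyp (X.left.residueField x) (str X (X.left.fromSpecResidueField x)).hom
  rw [show (str X (X.left.fromSpecResidueField x)).hom s = 0 from hx] at h
  exact rank_add_le (K := X.left.residueField x) (fun i hi x => by rw [h.hGF i hi, zero_smul]) (linked D _)
    (fun i hi => finrank_L (K := X.left.residueField x) D hr _ hi) hi

theorem exP_iff (D : Data X d (d - r) n f g) (hr : r ≤ d) (hyp : Hyp f g s) {x : X.left} (hx : van X s x) :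
    exP D x ↔ ∀ i < n, rkp D f x i i + rkp D g x i (i + 1) = r := by
  have h := isEx_im_iff (K := X.left.residueField x) D hr hyp (X.left.fromSpecResidueField x) hx
  have h2 : im (K := X.left.residueField x) (X.left.fromSpecResidueField x) = x :=
    Scheme.fromSpecResidueField_apply x _
  rw [h2] at h
  exact h

/-- exactness at a field-valued point only depends on the image -/
theorem exP_im (D : Data X d (d - r) n f g) (hr : r ≤ d) (hyp : Hyp f g s) {K : Type u} [Field K]
    (T : Spec (CommRingCat.of K) ⟶ X.left) :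
    exP D (im T) ↔ IsEx (ext f (str X T).hom) (ext g (str X T).hom) n (D.L T) := by
  by_cases hs : (str X T).hom s = 0
  · rw [exP_iff D hr hyp ((van_im T).2 hs), isEx_im_iff D hr hyp T hs]
  · have h := hyp K (str X T).hom
    refine iff_of_true (exP_of_not_van D hyp fun h1 => hs ((van_im T).1 h1)) ?_
    exact isEx_of_ne_zero hs h.hFG h.hGF (linked D T)

/-- deformation increasing the rank of `f i` and keeping the rank of `g i` -/
theorem exists_genF (D : Data X d (d - r) n f g) (hr : r ≤ d) (hyp : Hyp f g s) {x : X.left} (hx : van X s x) {i : ℕ}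
    (hi : i < n) (hlt : rkp D f x i i + rkp D g x i (i + 1) < r) :
    ∃ y, y ⤳ x ∧ van X s y ∧ rkp D f x i i < rkp D f y i i ∧ rkp D g y i (i + 1) = rkp D g x i (i + 1) := by
  have h := hyp (X.left.residueField x) (str X (X.left.fromSpecResidueField x)).hom
  rw [show (str X (X.left.fromSpecResidueField x)).hom s = 0 from hx] at h
  obtain ⟨E, hE1, hE2, hE3⟩ := exists_defF (K := X.left.residueField x) h (linked D (X.left.fromSpecResidueField x))
    (fun i hi => finrank_L (K := X.left.residueField x) D hr _ hi) hi hlt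
  obtain ⟨Q, _, ι, t, T, ht, hT, hstr, hL⟩ := exists_gen D hr x hE1
  refine ⟨im T, hT, ?_, ?_, ?_⟩
  · rw [van_im, hstr, RingHom.comp_apply, show (str X (X.left.fromSpecResidueField x)).hom s = 0 from hx, map_zero]
  · rw [rkp_im D f T hi.le]
    unfold rkp rk
    rw [hL i hi.le, hstr]
    exact hE2.lt (K := X.left.residueField x) ι ht (fun v => (mapV_ext f _ ι i v).symm)
  · rw [rkp_im D g T (Nat.succ_le_of_lt hi)]
    unfold rkp rk
    rw [hL (i + 1) (Nat.succ_le_of_lt hi), hE3, defSub_zero, hstr]
    exact finrank_map_ext (K := X.left.residueField x) g _ ι i _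

/-- deformation increasing the rank of `g i` and keeping the rank of `f i` -/
theorem exists_genG (D : Data X d (d - r) n f g) (hr : r ≤ d) (hyp : Hyp f g s) {x : X.left} (hx : van X s x) {i : ℕ}
    (hi : i < n) (hlt : rkp D f x i i + rkp D g x i (i + 1) < r) :
    ∃ y, y ⤳ x ∧ van X s y ∧ rkp D g x i (i + 1) < rkp D g y i (i + 1) ∧ rkp D f y i i = rkp D f x i i := by
  have h := hyp (X.left.residueField x) (str X (X.left.fromSpecResidueField x)).hom
  rw [show (str X (X.left.fromSpecResidueField x)).hom s = 0 from hx] at h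
  obtain ⟨E, hE1, hE2, hE3⟩ := exists_defG (K := X.left.residueField x) h (linked D (X.left.fromSpecResidueField x))
    (fun i hi => finrank_L (K := X.left.residueField x) D hr _ hi) hi hlt
  obtain ⟨Q, _, ι, t, T, ht, hT, hstr, hL⟩ := exists_gen D hr x hE1
  refine ⟨im T, hT, ?_, ?_, ?_⟩
  · rw [van_im, hstr, RingHom.comp_apply, show (str X (X.left.fromSpecResidueField x)).hom s = 0 from hx, map_zero]
  · rw [rkp_im D g T (Nat.succ_le_of_lt hi)]
    unfold rkp rk
    rw [hL (i + 1) (Nat.succ_le_of_lt hi), hstr]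
    exact hE2.lt (K := X.left.residueField x) ι ht (fun v => (mapV_ext g _ ι i v).symm)
  · rw [rkp_im D f T hi.le]
    unfold rkp rk
    rw [hL i hi.le, hE3, defSub_zero, hstr]
    exact finrank_map_ext (K := X.left.residueField x) f _ ι i _

/-- the distance to exactness -/
noncomputable def dist (D : Data X d (d - r) n f g) (x : X.left) : ℕ :=
  ∑ i ∈ Finset.range n, (r - (rkp D f x i i + rkp D g x i (i + 1)))

theorem dist_lt (D : Data X d (d - r) n f g) (hr : r ≤ d) (hyp : Hyp f g s) {x y : X.left} (hxy : y ⤳ x)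
    (hy : van X s y) {i : ℕ} (hi : i < n)
    (hlt : rkp D f x i i + rkp D g x i (i + 1) < rkp D f y i i + rkp D g y i (i + 1)) : dist D y < dist D x := by
  apply Finset.sum_lt_sum
  · intro j hj
    rw [Finset.mem_range] at hj
    have h1 := rkp_le_of_specializes D f (i := j) hj.le hxy
    have h2 := rkp_le_of_specializes D g (i := j) (Nat.succ_le_of_lt hj) hxy
    have h3 : rkp D g x j (j + 1) ≤ rkp D g y j (j + 1) := h2
    omega
  · refine ⟨i, Finset.mem_range.2 hi, ?_⟩
    have h3 := rkp_add_le D hr hyp hy hi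
    omega

/-- existence of exact generisations, keeping a property kept by well-chosen deformations -/
theorem exists_exact_aux (D : Data X d (d - r) n f g) (hr : r ≤ d) (hyp : Hyp f g s) (P : X.left → Prop)
    (hP : ∀ x, van X s x → P x → ¬ exP D x → ∃ y, y ⤳ x ∧ van X s y ∧ P y ∧ dist D y < dist D x) :
    ∀ (m : ℕ) (x : X.left), dist D x = m → van X s x → P x → ∃ y, y ⤳ x ∧ van X s y ∧ P y ∧ exP D y := by
  intro m
  induction m using Nat.strong_induction_on with
  | _ m ih =>
    intro x hm hx hPx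
    by_cases hex : exP D x
    · exact ⟨x, specializes_rfl, hx, hPx, hex⟩
    · obtain ⟨y, hy1, hy2, hy3, hy4⟩ := hP x hx hPx hex
      obtain ⟨z, hz1, hz2⟩ := ih (dist D y) (hm ▸ hy4) y rfl hy2 hy3
      exact ⟨z, hz1.trans hy1, hz2⟩

theorem exists_lt_of_not_exP (D : Data X d (d - r) n f g) (hr : r ≤ d) (hyp : Hyp f g s) {x : X.left}
    (hx : van X s x) (hex : ¬ exP D x) : ∃ i < n, rkp D f x i i + rkp D g x i (i + 1) < r := by
  rw [exP_iff D hr hyp hx] at hex
  push Not at hex
  obtain ⟨i, hi, hne⟩ := hex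
  exact ⟨i, hi, lt_of_le_of_ne (rkp_add_le D hr hyp hx hi) hne⟩

/-- every point has an exact generisation -/
theorem exists_exact (D : Data X d (d - r) n f g) (hr : r ≤ d) (hyp : Hyp f g s) (x : X.left) :
    ∃ y, y ⤳ x ∧ exP D y := by
  by_cases hx : van X s x
  · obtain ⟨y, hy1, -, -, hy2⟩ := exists_exact_aux D hr hyp (fun _ => True) (by
      intro x hx _ hex
      obtain ⟨i, hi, hlt⟩ := exists_lt_of_not_exP D hr hyp hx hex
      obtain ⟨y, hy1, hy2, hy3, hy4⟩ := exists_genF D hr hyp hx hi hlt
      exact ⟨y, hy1, hy2, trivial, dist_lt D hr hyp hy1 hy2 hi (by omega)⟩) _ x rfl hx trivial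
    exact ⟨y, hy1, hy2⟩
  · exact ⟨x, specializes_rfl, exP_of_not_van D hyp hx⟩

theorem exists_exactG (D : Data X d (d - r) n f g) (hr : r ≤ d) (hyp : Hyp f g s) {x : X.left} (hx : van X s x)
    {i : ℕ} (hi : i < n) :
    ∃ y, y ⤳ x ∧ van X s y ∧ rkp D g y i (i + 1) = rkp D g x i (i + 1) ∧ exP D y := by
  refine exists_exact_aux D hr hyp (fun y => rkp D g y i (i + 1) = rkp D g x i (i + 1)) ?_ _ x rfl hx rfl
  intro x' hx' hP hex
  by_cases hlt : rkp D f x' i i + rkp D g x' i (i + 1) < r
  · obtain ⟨y, hy1, hy2, hy3, hy4⟩ := exists_genF D hr hyp hx' hi hlt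
    exact ⟨y, hy1, hy2, hy4.trans hP, dist_lt D hr hyp hy1 hy2 hi (by omega)⟩
  · obtain ⟨j, hj, hlt'⟩ := exists_lt_of_not_exP D hr hyp hx' hex
    obtain ⟨y, hy1, hy2, hy3, hy4⟩ := exists_genF D hr hyp hx' hj hlt'
    refine ⟨y, hy1, hy2, ?_, dist_lt D hr hyp hy1 hy2 hj (by omega)⟩
    have h1 := rkp_le_of_specializes D f (i := i) hi.le hy1
    have h2 := rkp_le_of_specializes D g (i := i) (Nat.succ_le_of_lt hi) hy1
    have h3 := rkp_add_le D hr hyp hy2 hi
    have h4 : rkp D g x' i (i + 1) ≤ rkp D g y i (i + 1) := h2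
    omega

theorem exists_exactF (D : Data X d (d - r) n f g) (hr : r ≤ d) (hyp : Hyp f g s) {x : X.left} (hx : van X s x)
    {i : ℕ} (hi : i < n) :
    ∃ y, y ⤳ x ∧ van X s y ∧ rkp D f y i i = rkp D f x i i ∧ exP D y := by
  refine exists_exact_aux D hr hyp (fun y => rkp D f y i i = rkp D f x i i) ?_ _ x rfl hx rfl
  intro x' hx' hP hex
  by_cases hlt : rkp D f x' i i + rkp D g x' i (i + 1) < r
  · obtain ⟨y, hy1, hy2, hy3, hy4⟩ := exists_genG D hr hyp hx' hi hlt
    exact ⟨y, hy1, hy2, hy4.trans hP, dist_lt D hr hyp hy1 hy2 hi (by omega)⟩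
  · obtain ⟨j, hj, hlt'⟩ := exists_lt_of_not_exP D hr hyp hx' hex
    obtain ⟨y, hy1, hy2, hy3, hy4⟩ := exists_genF D hr hyp hx' hj hlt'
    refine ⟨y, hy1, hy2, ?_, dist_lt D hr hyp hy1 hy2 hj (by omega)⟩
    have h1 := rkp_le_of_specializes D f (i := i) hi.le hy1
    have h2 := rkp_le_of_specializes D g (i := i) (Nat.succ_le_of_lt hi) hy1
    have h3 := rkp_add_le D hr hyp hy2 hi
    have h4 : rkp D g x' i (i + 1) ≤ rkp D g y i (i + 1) := h2
    omega

/-- the type of an exact point -/
theorem exists_type (D : Data X d (d - r) n f g) (hr : r ≤ d) (hyp : Hyp f g s) {x : X.left} (hx : exP D x) :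
    ∃ τ : Fin r → ℕ, (∀ a, τ a ≤ n) ∧ ∀ y, y ⤳ x → HasType D τ y := by
  have h := hyp (X.left.residueField x) (str X (X.left.fromSpecResidueField x)).hom
  obtain ⟨τ, c, hτ, hc, hc'⟩ := exists_span (K := X.left.residueField x) h.hFG h.hGF h.hIII (linked D _) hx
    (fun i hi => finrank_L (K := X.left.residueField x) D hr _ hi)
  exact ⟨τ, hτ, fun y hy => hasType_of_specializes D hr hy hτ hc hc'⟩

theorem hasType_zero (D : Data X d (d - r) n f g) (hr : r ≤ d) (hyp : Hyp f g s) {x : X.left} (hx : ¬ van X s x) :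
    HasType D (fun _ => 0) x := by
  have h := hyp (X.left.residueField x) (str X (X.left.fromSpecResidueField x)).hom
  obtain ⟨c, hc, hc'⟩ := exists_span_zero (K := X.left.residueField x) hx h.hFG (linked D _)
    (fun i hi => finrank_L (K := X.left.residueField x) D hr _ hi)
  exact hasType_of_specializes D hr specializes_rfl (fun _ => Nat.zero_le _) hc hc'

section domain

variable [IsDomain R]

/-- generic points of type `τ` are the generic tuple -/
theorem isXi_of_generic (D : Data X d (d - r) n f g) (hr : r ≤ d)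
    (hI : ∀ i, (f i).comp (g i) = s • LinearMap.id ∧ (g i).comp (f i) = s • LinearMap.id)
    {τ : Fin r → ℕ} (hτ : ∀ a, τ a ≤ n) {y : X.left} (hy : HasType D τ y)
    (hgen : ∀ z, z ⤳ y → z = y) : IsXi D τ y := by
  obtain ⟨ξ, h1, h2⟩ := exists_xi D hr hI hτ hy
  rwa [hgen ξ h2] at h1

end domain

/-- the generic point of an irreducible component -/
theorem exists_generic {Z : Set X.left} (hZ : Z ∈ irreducibleComponents X.left) :
    ∃ ζ, closure {ζ} = Z ∧ ∀ z, z ⤳ ζ → z = ζ := by
  have hirr : IsIrreducible Z := hZ.1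
  have hcl : IsClosed Z := isClosed_of_mem_irreducibleComponents Z hZ
  obtain ⟨ζ, hζ⟩ := QuasiSober.sober hirr hcl
  refine ⟨ζ, hζ, ?_⟩
  intro z hz
  have h1 : Z ⊆ closure {z} := by
    rw [← show closure {ζ} = Z from hζ]
    exact closure_minimal (Set.singleton_subset_iff.2 hz.mem_closure) isClosed_closure
  have h2 : closure {z} ⊆ Z := hZ.2 isIrreducible_singleton.closure h1
  exact (Specializes.antisymm hz (specializes_iff_mem_closure.2 (by
    have h3 : z ∈ Z := h2 (subset_closure rfl)
    rw [← show closure {ζ} = Z from hζ] at h3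
    exact h3))).eq

/-- a point on a component is a specialisation of its generic point -/
theorem generic_specializes {Z : Set X.left} {ζ x : X.left} (h : closure {ζ} = Z) (hx : x ∈ Z) : ζ ⤳ x :=
  specializes_iff_mem_closure.2 (h ▸ hx)

end K678.Comp
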