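import Groth.Agent.W4c1limliniiii.K807.LGRep
import Groth.Agent.Grass.K652.AffYoneda

/-!
Points of a scheme representing the linked Grassmannian functor as tuples of submodules of `B^d` (indexed by `ℕ`).
-/

set_option autoImplicit false
universe u

open CategoryTheory CategoryTheory.Limits AlgebraicGeometry TensorProduct

namespace K678.LG

open K652.AffYoneda K652.MapSpan Groth.Agent.Fga.GrassBasic K807.LGFun K807.LGRep W4c1limliniiii

variable {R : Type u} [CommRing R]

/-- the maps of the chain over an `R`-algebra, indexed by `ℕ` -/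
noncomputable def ext {d n : ℕ} (f : Fin n → ((Fin d → R) →ₗ[R] (Fin d → R))) {B : Type u} [CommRing B]
    (ψ : R →+* B) (i : ℕ) : (Fin d → B) →ₗ[B] (Fin d → B) :=
  if h : i < n then ((LinearMap.toMatrix' (f ⟨i, h⟩)).map ψ).mulVecLin else 0

theorem ext_of_lt {d n : ℕ} (f : Fin n → ((Fin d → R) →ₗ[R] (Fin d → R))) {B : Type u} [CommRing B]
    (ψ : R →+* B) {i : ℕ} (h : i < n) :
    ext f ψ i = ((LinearMap.toMatrix' (f ⟨i, h⟩)).map ψ).mulVecLin := dif_pos h

/-- the maps of the chain are compatible with base change -/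
theorem ext_apply_map {d n : ℕ} (f : Fin n → ((Fin d → R) →ₗ[R] (Fin d → R))) {B C : Type u} [CommRing B]
    [CommRing C] (ψ : R →+* B) (φ : B →+* C) (i : ℕ) (v : Fin d → B) :
    (fun j => φ (ext f ψ i v j)) = ext f (φ.comp ψ) i (fun j => φ (v j)) := by
  unfold ext
  split_ifs with h
  · ext j
    simp only [Matrix.mulVecLin_apply, Matrix.mulVec, dotProduct, Matrix.map_apply, map_sum, map_mul,
      RingHom.comp_apply]
  · ext j
    simp

/-- the maps of the chain satisfy the relation `f g = s` -/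
theorem ext_comp {d n : ℕ} (f g : Fin n → ((Fin d → R) →ₗ[R] (Fin d → R))) (s : R)
    (h : ∀ i, (f i).comp (g i) = s • LinearMap.id) {B : Type u} [CommRing B] (ψ : R →+* B) :
    ∀ i < n, ∀ x, ext f ψ i (ext g ψ i x) = ψ s • x := by
  intro i hi x
  rw [ext_of_lt f ψ hi, ext_of_lt g ψ hi, Matrix.mulVecLin_apply, Matrix.mulVecLin_apply, Matrix.mulVec_mulVec]
  have h1 := congrArg LinearMap.toMatrix' (h ⟨i, hi⟩)
  rw [LinearMap.toMatrix'_comp, map_smul, LinearMap.toMatrix'_id] at h1
  rw [← Matrix.map_mul, h1]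
  have h2 : (s • (1 : Matrix (Fin d) (Fin d) R)).map ψ = ψ s • (1 : Matrix (Fin d) (Fin d) B) := by
    ext a b
    rw [Matrix.map_apply, Matrix.smul_apply, Matrix.smul_apply, smul_eq_mul, smul_eq_mul, map_mul]
    congr 1
    rw [Matrix.one_apply, Matrix.one_apply]
    split_ifs <;> simp
  rw [h2, Matrix.smul_mulVec, Matrix.one_mulVec]

/-- points of the linked Grassmannian with values in rings -/
structure Data (X : Over (Spec (CommRingCat.of R))) (d c n : ℕ)
    (f g : Fin n → ((Fin d → R) →ₗ[R] (Fin d → R))) where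
  /-- the tuple attached to a point -/
  L : ∀ {B : CommRingCat.{u}} (_ : Spec B ⟶ X.left), ℕ → Submodule B (Fin d → B)
  rank : ∀ {B : CommRingCat.{u}} (t : Spec B ⟶ X.left), ∀ i ≤ n, IsQuotRank c (L t i)
  f_mem : ∀ {B : CommRingCat.{u}} (t : Spec B ⟶ X.left), ∀ i < n,
    (L t i).map (ext f (str X t).hom i) ≤ L t (i + 1)
  g_mem : ∀ {B : CommRingCat.{u}} (t : Spec B ⟶ X.left), ∀ i < n,
    (L t (i + 1)).map (ext g (str X t).hom i) ≤ L t i
  nat : ∀ {B C : CommRingCat.{u}} (φ : B ⟶ C) (t : Spec B ⟶ X.left), ∀ i ≤ n,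
    L (Spec.map φ ≫ t) i = bc φ.hom (L t i)
  inj : ∀ {B : CommRingCat.{u}} (t t' : Spec B ⟶ X.left), t ≫ X.hom = t' ≫ X.hom →
    (∀ i ≤ n, L t i = L t' i) → t = t'
  exists_pt : ∀ {B : CommRingCat.{u}} (ψ : CommRingCat.of R ⟶ B) (L' : ℕ → Submodule B (Fin d → B)),
    (∀ i ≤ n, IsQuotRank c (L' i)) → (∀ i < n, (L' i).map (ext f ψ.hom i) ≤ L' (i + 1)) →
    (∀ i < n, (L' (i + 1)).map (ext g ψ.hom i) ≤ L' i) →
    ∃ t : Spec B ⟶ X.left, t ≫ X.hom = Spec.map ψ ∧ ∀ i ≤ n, L t i = L' i

section construct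

variable {d r n : ℕ} {f g : Fin n → ((Fin d → R) →ₗ[R] (Fin d → R))} {X : Over (Spec (CommRingCat.of R))}
  (e : ∀ A : CommAlgCat.{u} R,
      (Over.mk (Spec.map (CommRingCat.ofHom (algebraMap R A))) ⟶ X) ≃ LGPoints R d r n f g A)
  (he : ∀ (A B : CommAlgCat.{u} R) (φ : A ⟶ B)
      (x : Over.mk (Spec.map (CommRingCat.ofHom (algebraMap R A))) ⟶ X)
      (x' : Over.mk (Spec.map (CommRingCat.ofHom (algebraMap R B))) ⟶ X),
      x'.left = Spec.map (CommRingCat.ofHom φ.hom.toRingHom) ≫ x.left →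
        ∀ i, (e B x').1 i = Module.Grassmannian.map φ.hom ((e A x).1 i))

/-- a point over a ring as a point over an algebra -/
noncomputable def pt {B : CommRingCat.{u}} (ψ : CommRingCat.of R ⟶ B) (t : Spec B ⟶ X.left)
    (h : t ≫ X.hom = Spec.map ψ) :
    Over.mk (Spec.map (CommRingCat.ofHom (algebraMap R (algOf ψ)))) ⟶ X :=
  Over.homMk t h

/-- the tuple attached to a point over an algebra -/
noncomputable def subA (A : CommAlgCat.{u} R) (x : Over.mk (Spec.map (CommRingCat.ofHom (algebraMap R A))) ⟶ X)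
    (i : ℕ) : Submodule A (Fin d → A) :=
  if hi : i < n + 1 then (grEquiv (LinearEquiv.refl R (Fin d → R)) A ((e A x).1 ⟨i, hi⟩)).1 else ⊤

/-- the tuple attached to a point -/
noncomputable def sub {B : CommRingCat.{u}} (ψ : CommRingCat.of R ⟶ B) (t : Spec B ⟶ X.left)
    (h : t ≫ X.hom = Spec.map ψ) (i : ℕ) : Submodule B (Fin d → B) :=
  subA e (algOf ψ) (pt ψ t h) i

theorem subA_of_le (A : CommAlgCat.{u} R) (x : Over.mk (Spec.map (CommRingCat.ofHom (algebraMap R A))) ⟶ X)
    {i : ℕ} (hi : i ≤ n) : subA e A x i =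
      (grEquiv (LinearEquiv.refl R (Fin d → R)) A ((e A x).1 ⟨i, Nat.lt_succ_of_le hi⟩)).1 :=
  dif_pos (Nat.lt_succ_of_le hi)

theorem sub_congr {B : CommRingCat.{u}} (ψ ψ' : CommRingCat.of R ⟶ B) (t t' : Spec B ⟶ X.left)
    (h : t ≫ X.hom = Spec.map ψ) (h' : t' ≫ X.hom = Spec.map ψ') (e₁ : ψ = ψ') (e₂ : t = t') :
    sub e ψ t h = sub e ψ' t' h' := by
  subst e₁ e₂
  rfl

theorem subA_f_mem (A : CommAlgCat.{u} R) (x : Over.mk (Spec.map (CommRingCat.ofHom (algebraMap R A))) ⟶ X)
    {i : ℕ} (hi : i < n) : (subA e A x i).map (ext f (algebraMap R A) i) ≤ subA e A x (i + 1) := by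
  rw [subA_of_le e A x hi.le, subA_of_le e A x hi, ext_of_lt f _ hi, Submodule.map_le_iff_le_comap]
  exact (carry_iff A (f ⟨i, hi⟩) _ _).1 ((e A x).2 ⟨i, hi⟩).1

theorem subA_g_mem (A : CommAlgCat.{u} R) (x : Over.mk (Spec.map (CommRingCat.ofHom (algebraMap R A))) ⟶ X)
    {i : ℕ} (hi : i < n) : (subA e A x (i + 1)).map (ext g (algebraMap R A) i) ≤ subA e A x i := by
  rw [subA_of_le e A x hi.le, subA_of_le e A x hi, ext_of_lt g _ hi, Submodule.map_le_iff_le_comap]
  exact (carry_iff A (g ⟨i, hi⟩) _ _).1 ((e A x).2 ⟨i, hi⟩).2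

/-- base change by a linear map transported to `A^d` -/
theorem map_theta (A : Type u) [CommRing A] [Algebra R A] (φ : (Fin d → R) →ₗ[R] (Fin d → R))
    (V : Submodule A (A ⊗[R] (Fin d → R))) :
    (V.map (φ.baseChange A)).map (theta (LinearEquiv.refl R (Fin d → R)) A).toLinearMap =
      (V.map (theta (LinearEquiv.refl R (Fin d → R)) A).toLinearMap).map
        ((LinearMap.toMatrix' φ).map (algebraMap R A)).mulVecLin := by
  rw [← Submodule.map_comp, ← Submodule.map_comp]
  congr 1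
  exact LinearMap.ext fun x => theta_baseChange A φ x

theorem ker_theta (A : Type u) [CommRing A] [Algebra R A] (φ : (Fin d → R) →ₗ[R] (Fin d → R)) :
    (LinearMap.ker (φ.baseChange A)).map (theta (LinearEquiv.refl R (Fin d → R)) A).toLinearMap =
      LinearMap.ker ((LinearMap.toMatrix' φ).map (algebraMap R A)).mulVecLin := by
  apply le_antisymm
  · rintro _ ⟨x, hx, rfl⟩
    rw [LinearMap.mem_ker, Matrix.mulVecLin_apply]
    have h1 := theta_baseChange A φ x
    rw [show φ.baseChange A x = 0 from hx, map_zero] at h1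
    exact h1.symm
  · intro y hy
    refine ⟨(theta (LinearEquiv.refl R (Fin d → R)) A).symm y, ?_, LinearEquiv.apply_symm_apply _ _⟩
    have h1 := theta_baseChange A φ ((theta (LinearEquiv.refl R (Fin d → R)) A).symm y)
    rw [LinearEquiv.apply_symm_apply] at h1
    rw [LinearMap.mem_ker, Matrix.mulVecLin_apply] at hy
    rw [hy] at h1
    exact (theta (LinearEquiv.refl R (Fin d → R)) A).map_eq_zero_iff.1 h1

/-- exactness of a point in terms of submodules of `A^d` -/
theorem isExact_iff (A : CommAlgCat.{u} R) (x : Over.mk (Spec.map (CommRingCat.ofHom (algebraMap R A))) ⟶ X) :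
    IsExact R d r n f g A (e A x).1 ↔ ∀ i < n,
      LinearMap.ker (ext g (algebraMap R A) i) ⊓ subA e A x (i + 1) ≤ (subA e A x i).map (ext f (algebraMap R A) i) ∧
      LinearMap.ker (ext f (algebraMap R A) i) ⊓ subA e A x i ≤ (subA e A x (i + 1)).map (ext g (algebraMap R A) i) := by
  have hinj : Function.Injective (theta (LinearEquiv.refl R (Fin d → R)) A).toLinearMap :=
    (theta (LinearEquiv.refl R (Fin d → R)) A).injective
  have key : ∀ (φ ψ : (Fin d → R) →ₗ[R] (Fin d → R)) (V W : Submodule A (A ⊗[R] (Fin d → R))),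
      LinearMap.ker (ψ.baseChange A) ⊓ V ≤ W.map (φ.baseChange A) ↔
      LinearMap.ker ((LinearMap.toMatrix' ψ).map (algebraMap R A)).mulVecLin ⊓
        V.map (theta (LinearEquiv.refl R (Fin d → R)) A).toLinearMap ≤
      (W.map (theta (LinearEquiv.refl R (Fin d → R)) A).toLinearMap).map
        ((LinearMap.toMatrix' φ).map (algebraMap R A)).mulVecLin := by
    intro φ ψ V W
    rw [← map_theta, ← ker_theta, ← Submodule.map_inf _ hinj, Submodule.map_le_map_iff_of_injective hinj]
  constructor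
  · intro h i hi
    have h1 := h ⟨i, hi⟩
    rw [key, key] at h1
    rw [subA_of_le e A x hi.le, subA_of_le e A x hi, ext_of_lt f _ hi, ext_of_lt g _ hi]
    exact h1
  · intro h i
    have h1 := h i.val i.2
    rw [subA_of_le e A x i.2.le, subA_of_le e A x i.2, ext_of_lt f _ i.2, ext_of_lt g _ i.2] at h1
    rw [key, key]
    exact h1

include he in
theorem subA_nat (A B : CommAlgCat.{u} R) (φ : A ⟶ B)
    (x : Over.mk (Spec.map (CommRingCat.ofHom (algebraMap R A))) ⟶ X)
    (x' : Over.mk (Spec.map (CommRingCat.ofHom (algebraMap R B))) ⟶ X)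
    (h : x'.left = Spec.map (CommRingCat.ofHom φ.hom.toRingHom) ≫ x.left) (i : ℕ) (hi : i ≤ n) :
    subA e B x' i = bc φ.hom.toRingHom (subA e A x i) := by
  rw [subA_of_le e A x hi, subA_of_le e B x' hi, he A B φ x x' h, grEquiv_map]

include he in
theorem sub_nat {B C : CommRingCat.{u}} (ψ : CommRingCat.of R ⟶ B) (φ : B ⟶ C) (ψ' : CommRingCat.of R ⟶ C)
    (hφ : ψ ≫ φ = ψ') (t : Spec B ⟶ X.left) (h : t ≫ X.hom = Spec.map ψ)
    (h' : (Spec.map φ ≫ t) ≫ X.hom = Spec.map ψ') (i : ℕ) (hi : i ≤ n) :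
    sub e ψ' (Spec.map φ ≫ t) h' i = bc φ.hom (sub e ψ t h i) :=
  subA_nat e he (algOf ψ) (algOf ψ') (algMap ψ ψ' φ hφ) (pt ψ t h) (pt ψ' (Spec.map φ ≫ t) h') rfl i hi

theorem sub_ext {B : CommRingCat.{u}} (ψ : CommRingCat.of R ⟶ B) (t t' : Spec B ⟶ X.left)
    (h : t ≫ X.hom = Spec.map ψ) (h' : t' ≫ X.hom = Spec.map ψ)
    (hs : ∀ i ≤ n, sub e ψ t h i = sub e ψ t' h' i) : t = t' := by
  have h1 : e (algOf ψ) (pt ψ t h) = e (algOf ψ) (pt ψ t' h') := by
    apply Subtype.ext
    funext i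
    apply (grEquiv (LinearEquiv.refl R (Fin d → R)) (algOf ψ)).injective
    apply Subtype.ext
    have h2 := hs i.val (Nat.le_of_lt_succ i.2)
    unfold sub at h2
    rw [subA_of_le e _ _ (Nat.le_of_lt_succ i.2), subA_of_le e _ _ (Nat.le_of_lt_succ i.2)] at h2
    exact h2
  have h2 := (e (algOf ψ)).injective h1
  exact congrArg CommaMorphism.left h2

theorem sub_exists {B : CommRingCat.{u}} (ψ : CommRingCat.of R ⟶ B) (L' : ℕ → Submodule B (Fin d → B))
    (hL : ∀ i ≤ n, IsQuotRank (d - r) (L' i)) (hf : ∀ i < n, (L' i).map (ext f ψ.hom i) ≤ L' (i + 1))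
    (hg : ∀ i < n, (L' (i + 1)).map (ext g ψ.hom i) ≤ L' i) :
    ∃ (t : Spec B ⟶ X.left) (h : t ≫ X.hom = Spec.map ψ), ∀ i ≤ n, sub e ψ t h i = L' i := by
  let N : LGPoints R d r n f g (algOf ψ) :=
    ⟨fun i => (grEquiv (LinearEquiv.refl R (Fin d → R)) (algOf ψ)).symm ⟨L' i.val, hL i.val (Nat.le_of_lt_succ i.2)⟩, by
      intro i
      rw [carry_iff, carry_iff, Equiv.apply_symm_apply, Equiv.apply_symm_apply]
      have h1 := hf i.val i.2
      have h2 := hg i.val i.2
      rw [ext_of_lt f _ i.2, Submodule.map_le_iff_le_comap] at h1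
      rw [ext_of_lt g _ i.2, Submodule.map_le_iff_le_comap] at h2
      exact ⟨h1, h2⟩⟩
  refine ⟨((e (algOf ψ)).symm N).left, Over.w ((e (algOf ψ)).symm N), ?_⟩
  intro i hi
  unfold sub
  have h3 : pt ψ ((e (algOf ψ)).symm N).left (Over.w ((e (algOf ψ)).symm N)) = (e (algOf ψ)).symm N := rfl
  rw [h3, subA_of_le e _ _ hi, Equiv.apply_symm_apply]
  exact congrArg Subtype.val ((grEquiv (LinearEquiv.refl R (Fin d → R)) (algOf ψ)).apply_symm_apply _)

include he in
/-- The points of a scheme representing a linked Grassmannian functor. -/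
theorem exists_data : ∃ D : Data X d (d - r) n f g,
    ∀ (A : CommAlgCat.{u} R) (x : Over.mk (Spec.map (CommRingCat.ofHom (algebraMap R A))) ⟶ X),
      ∀ i ≤ n, D.L x.left i = subA e A x i := by
  refine ⟨{ L := fun {B} t => sub e (str X t) t (map_str X t).symm
            rank := ?_
            f_mem := ?_
            g_mem := ?_
            nat := ?_
            inj := ?_
            exists_pt := ?_ }, ?_⟩
  · intro B t i hi
    unfold sub
    rw [subA_of_le e _ _ hi]
    exact (grEquiv (LinearEquiv.refl R (Fin d → R)) (algOf (str X t)) _).2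
  · intro B t i hi
    exact subA_f_mem e (algOf (str X t)) (pt (str X t) t (map_str X t).symm) hi
  · intro B t i hi
    exact subA_g_mem e (algOf (str X t)) (pt (str X t) t (map_str X t).symm) hi
  · intro B C φ t i hi
    exact sub_nat e he (str X t) φ _ (str_comp φ t) t _ _ i hi
  · intro B t t' h1 h2
    have h3 : str X t = str X t' := by
      apply Spec.map_injective
      rw [map_str, map_str, h1]
    rw [sub_congr e (str X t') (str X t) t' t' _ (h1.symm.trans (map_str X t).symm).symm.symm h3.symm rfl] at h2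
    exact sub_ext e (str X t) t t' _ _ h2
  · intro B ψ L' hL hf hg
    obtain ⟨t, h, ht⟩ := sub_exists e ψ L' hL hf hg
    refine ⟨t, h, ?_⟩
    intro i hi
    rw [← ht i hi]
    have h3 : str X t = ψ := by
      apply Spec.map_injective
      rw [map_str, h]
    exact congrFun (sub_congr e (str X t) ψ t t _ h h3 rfl) i
  · intro A x i hi
    have h1 : x.left ≫ X.hom = Spec.map (CommRingCat.ofHom (algebraMap R A)) := Over.w x
    have h3 : str X x.left = CommRingCat.ofHom (algebraMap R A) := by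
      apply Spec.map_injective
      rw [map_str, h1]
    have h4 := congrFun (sub_congr e (str X x.left) (CommRingCat.ofHom (algebraMap R A)) x.left x.left
      (map_str X x.left).symm h1 h3 rfl) i
    refine h4.trans ?_
    have h5 : x.left = Spec.map (CommRingCat.ofHom (toAlgOf A).hom.toRingHom) ≫ x.left :=
      ((congrArg (fun m => m ≫ x.left) (Spec.map_id (CommRingCat.of A))).trans (Category.id_comp _)).symm
    have h6 := subA_nat e he A (algOf (CommRingCat.ofHom (algebraMap R A))) (toAlgOf A) x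
      (pt (CommRingCat.ofHom (algebraMap R A)) x.left h1) h5 i hi
    refine h6.trans ?_
    exact bc_id _

end construct

end K678.LG
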