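import Groth.Agent.W4c1limliniiii.K678.Points

/-!
Points of type `τ` of a linked Grassmannian: the tuple is spanned by vectors born at the vertices `τ a`.
Over a domain there is a point (the image of the generic family of vectors) specialising to all of them.
-/

set_option autoImplicit false
universe u

open CategoryTheory AlgebraicGeometry TensorProduct Module IsLocalRing

namespace K678.Types

open K652.AffYoneda Groth.Agent.Fga.GrassBasic K678.LG K678.LocSpan K678.Deform K678.Exact K189.Chain K678.Pts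

variable {R : Type u} [CommRing R] {d r n : ℕ} {f g : Fin n → ((Fin d → R) →ₗ[R] (Fin d → R))}
  {X : Over (Spec (CommRingCat.of R))}

theorem mapV_push {B C : Type u} [CommRing B] [CommRing C] (ψ : R →+* B) (φ : B →+* C) {i j : ℕ} (hj : j ≤ n)
    (hi : i ≤ n) (v : Fin d → B) :
    mapV φ (push (ext f ψ) (ext g ψ) j i v) = push (ext f (φ.comp ψ)) (ext g (φ.comp ψ)) j i (mapV φ v) := by
  let θ : (Fin d → B) →+ (Fin d → C) := ⟨⟨mapV φ, mapV_zero φ⟩, mapV_add φ⟩
  exact map_push (n := n) θ (fun i _ x => mapV_ext f ψ φ i x) (fun i _ x => mapV_ext g ψ φ i x) hj hi v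

theorem bc_spanT {B C : Type u} [CommRing B] [CommRing C] (ψ : R →+* B) (φ : B →+* C) {κ : Type*} {τ : κ → ℕ}
    (hτ : ∀ a, τ a ≤ n) (c : κ → Fin d → B) {i : ℕ} (hi : i ≤ n) :
    bc φ (spanT (ext f ψ) (ext g ψ) τ c i) =
      spanT (ext f (φ.comp ψ)) (ext g (φ.comp ψ)) τ (fun a => mapV φ (c a)) i := by
  unfold spanT
  rw [bc_span']
  congr 2
  funext a
  exact mapV_push ψ φ (hτ a) hi (c a)

theorem bc_eq_image {B C : Type*} [CommRing B] [CommRing C] (φ : B →+* C) (hφ : Function.Surjective φ)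
    (L : Submodule B (Fin d → B)) {y : Fin d → C} (hy : y ∈ bc φ L) : ∃ x ∈ L, mapV φ x = y := by
  induction hy using Submodule.span_induction with
  | mem x h =>
    obtain ⟨v, hv, rfl⟩ := h
    exact ⟨v, hv, rfl⟩
  | zero => exact ⟨0, Submodule.zero_mem _, mapV_zero φ⟩
  | add x y _ _ hx hy =>
    obtain ⟨v, hv, rfl⟩ := hx
    obtain ⟨w, hw, rfl⟩ := hy
    exact ⟨v + w, Submodule.add_mem _ hv hw, mapV_add φ v w⟩
  | smul a x _ hx =>
    obtain ⟨v, hv, rfl⟩ := hx
    obtain ⟨b, rfl⟩ := hφ a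
    exact ⟨b • v, Submodule.smul_mem _ _ hv, mapV_smul φ b v⟩

/-- points of type `τ` -/
def HasType (D : Data X d (d - r) n f g) (τ : Fin r → ℕ) (y : X.left) : Prop :=
  ∃ (K : Type u) (_ : Field K) (T : Spec (CommRingCat.of K) ⟶ X.left) (c : Fin r → Fin d → K), im T = y ∧
    ∀ i ≤ n, spanT (ext f (str X T).hom) (ext g (str X T).hom) τ c i = D.L T i

/-- the type is constant under generisation -/
theorem hasType_of_specializes (D : Data X d (d - r) n f g) (hr : r ≤ d) {x y : X.left} (hxy : y ⤳ x)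
    {τ : Fin r → ℕ} (hτ : ∀ a, τ a ≤ n)
    {c : Fin r → Fin d → X.left.residueField x} (hc : ∀ a, c a ∈ D.L (X.left.fromSpecResidueField x) (τ a))
    (h : ∀ i ≤ n, spanT (ext f (str X (X.left.fromSpecResidueField x)).hom)
      (ext g (str X (X.left.fromSpecResidueField x)).hom) τ c i = D.L (X.left.fromSpecResidueField x) i) :
    HasType D τ y := by
  let A := X.left.presheaf.stalk x
  let T : Spec A ⟶ X.left := X.left.fromSpecStalk x
  let K := X.left.residueField x
  let ρ : A ⟶ K := X.left.residue x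
  have hT : Spec.map ρ ≫ T = X.left.fromSpecResidueField x := rfl
  have hρ : Function.Surjective ρ.hom := X.left.residue_surjective x
  have hloc : IsLocalHom ρ.hom := inferInstanceAs (IsLocalHom (IsLocalRing.residue (X.left.presheaf.stalk x)))
  have h1 : ∀ i ≤ n, D.L (X.left.fromSpecResidueField x) i = bc ρ.hom (D.L T i) := fun i hi => by
    rw [← hT, D.nat ρ T i hi]
  have hstr : str X (X.left.fromSpecResidueField x) = str X T ≫ ρ := by
    rw [← hT]
    exact (str_comp ρ T).symm
  have h2 : ∀ a, ∃ v ∈ D.L T (τ a), mapV ρ.hom v = c a := fun a =>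
    bc_eq_image ρ.hom hρ _ (h1 (τ a) (hτ a) ▸ hc a)
  choose v hv hv' using h2
  have hv'' : (fun a => mapV ρ.hom (v a)) = c := funext hv'
  have h3 : ∀ i ≤ n, spanT (ext f (str X T).hom) (ext g (str X T).hom) τ v i = D.L T i := by
    intro i hi
    refine span_eq_of_li (K := K) ρ.hom (D.rank T i hi) _ (fun a => push_mem (D.f_mem T) (D.g_mem T) (hτ a) hi (hv a)) ?_
    have h4 : (fun a => mapV ρ.hom (push (ext f (str X T).hom) (ext g (str X T).hom) (τ a) i (v a))) =
        fun a => push (ext f (ρ.hom.comp (str X T).hom)) (ext g (ρ.hom.comp (str X T).hom)) (τ a) i (c a) := by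
      funext a
      rw [mapV_push _ _ (hτ a) hi, hv' a]
    rw [h4]
    refine li_of_span (K := K) (finrank_L (K := K) D hr (X.left.fromSpecResidueField x) hi) _ ?_
    rw [← h i hi, hstr]
    rfl
  have hy : y ∈ Set.range T := by
    have h5 : Set.range T = {y | y ⤳ x} := Scheme.range_fromSpecStalk
    rw [h5]
    exact hxy
  obtain ⟨p, rfl⟩ := hy
  let φ : A ⟶ CommRingCat.of p.asIdeal.ResidueField := CommRingCat.ofHom (algebraMap A p.asIdeal.ResidueField)
  refine ⟨p.asIdeal.ResidueField, inferInstance, Spec.map φ ≫ T, fun a => mapV φ.hom (v a), ?_, ?_⟩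
  · rw [im_map]
    congr 1
    apply PrimeSpectrum.ext
    ext b
    change algebraMap A p.asIdeal.ResidueField b ∈ maximalIdeal p.asIdeal.ResidueField ↔ _
    rw [IsLocalRing.maximalIdeal_eq_bot, Ideal.mem_bot, Ideal.algebraMap_residueField_eq_zero]
  · intro i hi
    have h6 : str X (Spec.map φ ≫ T) = str X T ≫ φ := (str_comp φ T).symm
    rw [D.nat φ T i hi, ← h3 i hi, bc_spanT _ _ hτ _ hi, h6]
    rfl

section generic

variable [IsDomain R]

/-- the ring of the generic family of vectors -/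
abbrev GenR (R : Type u) [CommRing R] (r d : ℕ) : Type u := MvPolynomial (Fin r × Fin d) R

/-- the generic family of vectors -/
noncomputable def gen (R : Type u) [CommRing R] (r d : ℕ) (a : Fin r) : Fin d → GenR R r d :=
  fun j => MvPolynomial.X (a, j)

/-- `ξ` is the point given by the generic family of vectors. -/
def IsXi (D : Data X d (d - r) n f g) (τ : Fin r → ℕ) (ξ : X.left) : Prop :=
  ∃ T : Spec (CommRingCat.of (FractionRing (GenR R r d))) ⟶ X.left, im T = ξ ∧
    T ≫ X.hom = Spec.map (CommRingCat.ofHom ((algebraMap (GenR R r d) (FractionRing (GenR R r d))).comp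
      MvPolynomial.C)) ∧
    ∀ i ≤ n, D.L T i = spanT
      (ext f ((algebraMap (GenR R r d) (FractionRing (GenR R r d))).comp MvPolynomial.C))
      (ext g ((algebraMap (GenR R r d) (FractionRing (GenR R r d))).comp MvPolynomial.C)) τ
      (fun a => mapV (algebraMap (GenR R r d) (FractionRing (GenR R r d))) (gen R r d a)) i

theorem IsXi.unique {D : Data X d (d - r) n f g} {τ : Fin r → ℕ} {ξ ξ' : X.left} (h : IsXi D τ ξ)
    (h' : IsXi D τ ξ') : ξ = ξ' := by
  obtain ⟨T, rfl, hT, hL⟩ := h
  obtain ⟨T', rfl, hT', hL'⟩ := h'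
  congr 1
  exact D.inj _ _ (hT.trans hT'.symm) fun i hi => (hL i hi).trans (hL' i hi).symm

/-- The generic family of vectors specialises to all points of type `τ`. -/
theorem exists_xi (D : Data X d (d - r) n f g) (hr : r ≤ d) {s : R}
    (hI : ∀ i, (f i).comp (g i) = s • LinearMap.id ∧ (g i).comp (f i) = s • LinearMap.id)
    {τ : Fin r → ℕ} (hτ : ∀ a, τ a ≤ n) {y : X.left} (hy : HasType D τ y) : ∃ ξ, IsXi D τ ξ ∧ ξ ⤳ y := by
  obtain ⟨K, _, T, c, rfl, hT⟩ := hy
  let P := GenR R r d
  let φ : P →+* K := MvPolynomial.eval₂Hom (str X T).hom fun p => c p.1 p.2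
  let q : Ideal P := RingHom.ker φ
  have hq : q.IsPrime := RingHom.ker_isPrime φ
  let A := Localization.AtPrime q
  have hφ : ∀ y : q.primeCompl, IsUnit (φ y) := fun y => isUnit_iff_ne_zero.2 fun h => y.2 h
  let φ' : A →+* K := IsLocalization.lift hφ
  have hφ'1 : ∀ a : P, φ' (algebraMap P A a) = φ a := fun a => IsLocalization.lift_eq hφ a
  have hloc : IsLocalHom φ' := by
    refine ⟨fun a ha => ?_⟩
    obtain ⟨p, s, rfl⟩ := IsLocalization.exists_mk'_eq q.primeCompl a
    rw [IsLocalization.AtPrime.isUnit_mk'_iff A q]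
    intro hp
    apply ha.ne_zero
    rw [IsLocalization.lift_mk'_spec]
    rw [mul_zero]
    exact hp
  let ψA : R →+* A := (algebraMap P A).comp MvPolynomial.C
  have hψA : φ'.comp ψA = (str X T).hom := by
    ext a
    change φ' (algebraMap P A (MvPolynomial.C a)) = _
    rw [hφ'1]
    exact MvPolynomial.eval₂_C _ _ _
  let G : Fin r → Fin d → A := fun a => mapV (algebraMap P A) (gen R r d a)
  have hG : (fun a => mapV φ' (G a)) = c := by
    funext a j
    change φ' (algebraMap P A (MvPolynomial.X (a, j))) = _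
    rw [hφ'1]
    exact MvPolynomial.eval₂_X _ _ _
  have hbc : ∀ i ≤ n, bc φ' (spanT (ext f ψA) (ext g ψA) τ G i) = D.L T i := by
    intro i hi
    rw [bc_spanT ψA φ' hτ G hi, hψA, hG, hT i hi]
  have hrank : ∀ i ≤ n, IsQuotRank (d - r) (spanT (ext f ψA) (ext g ψA) τ G i) := by
    intro i hi
    refine isQuotRank_span_of_li φ' _ ?_
    refine li_of_span (finrank_L D hr T hi) _ ?_
    rw [← hbc i hi]
    exact (bc_span' _ _).symm
  obtain ⟨TA, hTA1, hTA2⟩ := D.exists_pt (B := CommRingCat.of A) (CommRingCat.ofHom ψA)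
    (fun i => spanT (ext f ψA) (ext g ψA) τ G i) hrank
    (fun i hi => map_F_spanT (ext_comp f g s (fun i => (hI i).1) ψA) hi)
    (fun i hi => map_G_spanT (ext_comp g f s (fun i => (hI i).2) ψA) hi)
  let ρ : CommRingCat.of A ⟶ CommRingCat.of K := CommRingCat.ofHom φ'
  have h1 : Spec.map ρ ≫ TA = T := by
    apply D.inj
    · rw [Category.assoc, hTA1, ← Spec.map_comp, ← map_str]
      congr 1
      ext a
      exact DFunLike.congr_fun hψA a
    · intro i hi
      rw [D.nat ρ TA i hi, hTA2 i hi]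
      exact hbc i hi
  let Q := FractionRing P
  have hle : q.primeCompl ≤ nonZeroDivisors P := Ideal.primeCompl_le_nonZeroDivisors q
  have hu : ∀ y : q.primeCompl, IsUnit (algebraMap P Q y) := fun y =>
    IsLocalization.map_units Q (⟨y.1, hle y.2⟩ : nonZeroDivisors P)
  let κ : A →+* Q := IsLocalization.lift hu
  have hκ : ∀ a : P, κ (algebraMap P A a) = algebraMap P Q a := fun a => IsLocalization.lift_eq hu a
  have hκ' : κ.comp ψA = (algebraMap P Q).comp MvPolynomial.C := by
    ext a
    exact hκ _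
  let qm : CommRingCat.of A ⟶ CommRingCat.of Q := CommRingCat.ofHom κ
  refine ⟨im (Spec.map qm ≫ TA), ⟨Spec.map qm ≫ TA, rfl, ?_, ?_⟩, ?_⟩
  · rw [Category.assoc, hTA1, ← Spec.map_comp, ← hκ']
    rfl
  · intro i hi
    rw [D.nat qm TA i hi, hTA2 i hi]
    change bc κ _ = _
    rw [bc_spanT ψA κ hτ G hi, hκ']
    congr 1
    funext a j
    exact hκ _
  · have hloc' : IsLocalHom ρ.hom := hloc
    have h2 := im_specializes (B := CommRingCat.of A) TA ρ qm
    rwa [h1] at h2

/-- the generic family lies over the generic point -/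
theorem IsXi.map_eq {D : Data X d (d - r) n f g} {τ : Fin r → ℕ} {ξ : X.left} (h : IsXi D τ ξ) :
    X.hom ξ = (⊥ : PrimeSpectrum R) := by
  obtain ⟨T, rfl, hT, -⟩ := h
  unfold im
  rw [← Scheme.Hom.comp_apply, hT]
  apply PrimeSpectrum.ext
  ext a
  change (algebraMap (GenR R r d) (FractionRing (GenR R r d))) (MvPolynomial.C a) ∈ maximalIdeal _ ↔ a ∈ (⊥ : Ideal R)
  rw [IsLocalRing.maximalIdeal_eq_bot, Ideal.mem_bot, Ideal.mem_bot, FaithfulSMul.algebraMap_eq_zero_iff,
    MvPolynomial.C_eq_zero]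

end generic

end K678.Types
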